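/-
Integral tables of the seven dimensional representation of the Chevalley datum of type G₂.

* `gen`: the matrices of the Chevalley basis; `cross`: those of the product with the coordinate vectors
* `act r d`, `adj r d`: the coefficient of `t ^ d` of a root element in dimensions seven and fourteen
-/
import Cfsg.Agent.EqLemmas
import Cfsg.Agent.Lib.Chev.DataG2

set_option autoImplicit false
set_option synthInstance.maxSize 4000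
set_option maxRecDepth 100000

namespace Cfsg.Agent.G2Orders

open Cfsg.Lie

/-- Integral matrices of size seven. -/
abbrev M7 : Type := Matrix (Fin 7) (Fin 7) ℤ

/-- A matrix from its rows. -/
def mk (l : List (List ℤ)) : M7 := Matrix.of fun i j => (l.getD i.val []).getD j.val 0

/-- The matrices of the root vectors. -/
def rootN : ℕ → M7
  | 0 => mk [[0, 0, 0, 0, 0, 0, 0], [0, 0, 0, 0, 0, 0, 0], [0, 0, 0, 0, 0, 0, 0], [0, 0, 1, 0, 0, 0, 0], [0, 0, 0, 0, 0, 0, 0], [0, 0, 0, 0, 0, 0, -1], [0, 0, 0, 0, 0, 0, 0]]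
  | 1 => mk [[0, 0, 0, 0, 0, 0, 0], [0, 0, 0, 0, 0, 0, 0], [0, 0, 0, 0, 0, 0, 0], [0, -1, 0, 0, 0, 0, 0], [0, 0, 0, 0, 0, 0, 1], [0, 0, 0, 0, 0, 0, 0], [0, 0, 0, 0, 0, 0, 0]]
  | 2 => mk [[0, 0, 0, 0, 0, 0, 1], [0, 0, 0, 0, 0, 0, 0], [0, 0, 0, 0, 0, 0, 0], [-2, 0, 0, 0, 0, 0, 0], [0, 0, 1, 0, 0, 0, 0], [0, -1, 0, 0, 0, 0, 0], [0, 0, 0, 0, 0, 0, 0]]
  | 3 => mk [[0, 0, -1, 0, 0, 0, 0], [0, 0, 0, 0, 0, 0, 1], [0, 0, 0, 0, 0, 0, 0], [0, 0, 0, 0, -1, 0, 0], [0, 0, 0, 0, 0, 0, 0], [2, 0, 0, 0, 0, 0, 0], [0, 0, 0, 0, 0, 0, 0]]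
  | 4 => mk [[0, 1, 0, 0, 0, 0, 0], [0, 0, 0, 0, 0, 0, 0], [0, 0, 0, 0, 0, 0, 1], [0, 0, 0, 0, 0, -1, 0], [-2, 0, 0, 0, 0, 0, 0], [0, 0, 0, 0, 0, 0, 0], [0, 0, 0, 0, 0, 0, 0]]
  | 5 => mk [[0, 0, 0, 0, 0, 0, 0], [0, 0, -1, 0, 0, 0, 0], [0, 0, 0, 0, 0, 0, 0], [0, 0, 0, 0, 0, 0, 0], [0, 0, 0, 0, 0, 0, 0], [0, 0, 0, 0, 1, 0, 0], [0, 0, 0, 0, 0, 0, 0]]
  | 6 => mk [[0, 0, 0, 0, 0, 0, 0], [0, 0, 0, 0, 0, 0, 0], [0, -1, 0, 0, 0, 0, 0], [0, 0, 0, 0, 0, 0, 0], [0, 0, 0, 0, 0, 1, 0], [0, 0, 0, 0, 0, 0, 0], [0, 0, 0, 0, 0, 0, 0]]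
  | 7 => mk [[0, 0, 0, 0, -1, 0, 0], [2, 0, 0, 0, 0, 0, 0], [0, 0, 0, 0, 0, 0, 0], [0, 0, 0, 0, 0, 0, 0], [0, 0, 0, 0, 0, 0, 0], [0, 0, 0, -1, 0, 0, 0], [0, 0, 1, 0, 0, 0, 0]]
  | 8 => mk [[0, 0, 0, 0, 0, 1, 0], [0, 0, 0, 0, 0, 0, 0], [-2, 0, 0, 0, 0, 0, 0], [0, 0, 0, 0, 0, 0, 0], [0, 0, 0, -1, 0, 0, 0], [0, 0, 0, 0, 0, 0, 0], [0, 1, 0, 0, 0, 0, 0]]
  | 9 => mk [[0, 0, 0, -1, 0, 0, 0], [0, 0, 0, 0, 0, -1, 0], [0, 0, 0, 0, 1, 0, 0], [0, 0, 0, 0, 0, 0, 0], [0, 0, 0, 0, 0, 0, 0], [0, 0, 0, 0, 0, 0, 0], [2, 0, 0, 0, 0, 0, 0]]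
  | 10 => mk [[0, 0, 0, 0, 0, 0, 0], [0, 0, 0, -1, 0, 0, 0], [0, 0, 0, 0, 0, 0, 0], [0, 0, 0, 0, 0, 0, 0], [0, 0, 0, 0, 0, 0, 0], [0, 0, 0, 0, 0, 0, 0], [0, 0, 0, 0, 1, 0, 0]]
  | 11 => mk [[0, 0, 0, 0, 0, 0, 0], [0, 0, 0, 0, 0, 0, 0], [0, 0, 0, 1, 0, 0, 0], [0, 0, 0, 0, 0, 0, 0], [0, 0, 0, 0, 0, 0, 0], [0, 0, 0, 0, 0, 0, 0], [0, 0, 0, 0, 0, -1, 0]]
  | _ => 0

/-- The matrices of the fundamental coroots. -/
def corH : ℕ → M7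
  | 0 => mk [[0, 0, 0, 0, 0, 0, 0], [0, 2, 0, 0, 0, 0, 0], [0, 0, -1, 0, 0, 0, 0], [0, 0, 0, -1, 0, 0, 0], [0, 0, 0, 0, -2, 0, 0], [0, 0, 0, 0, 0, 1, 0], [0, 0, 0, 0, 0, 0, 1]]
  | _ => mk [[0, 0, 0, 0, 0, 0, 0], [0, -1, 0, 0, 0, 0, 0], [0, 0, 1, 0, 0, 0, 0], [0, 0, 0, 0, 0, 0, 0], [0, 0, 0, 0, 1, 0, 0], [0, 0, 0, 0, 0, -1, 0], [0, 0, 0, 0, 0, 0, 0]]

/-- The matrices of the Chevalley basis. -/
def gen : chevG2.Idx → M7 := Sum.elim (fun i => corH i.val) fun r => rootN r.val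

/-- The matrices of the product with the coordinate vectors. -/
def cross : Fin 7 → M7
  | 0 => mk [[0, 0, 0, 0, 0, 0, 0], [0, 2, 0, 0, 0, 0, 0], [0, 0, 2, 0, 0, 0, 0], [0, 0, 0, 2, 0, 0, 0], [0, 0, 0, 0, -2, 0, 0], [0, 0, 0, 0, 0, -2, 0], [0, 0, 0, 0, 0, 0, -2]]
  | 1 => mk [[0, 0, 0, 0, 1, 0, 0], [-2, 0, 0, 0, 0, 0, 0], [0, 0, 0, 0, 0, 0, 0], [0, 0, 0, 0, 0, 0, 0], [0, 0, 0, 0, 0, 0, 0], [0, 0, 0, -2, 0, 0, 0], [0, 0, 2, 0, 0, 0, 0]]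
  | 2 => mk [[0, 0, 0, 0, 0, 1, 0], [0, 0, 0, 0, 0, 0, 0], [-2, 0, 0, 0, 0, 0, 0], [0, 0, 0, 0, 0, 0, 0], [0, 0, 0, 2, 0, 0, 0], [0, 0, 0, 0, 0, 0, 0], [0, -2, 0, 0, 0, 0, 0]]
  | 3 => mk [[0, 0, 0, 0, 0, 0, 1], [0, 0, 0, 0, 0, 0, 0], [0, 0, 0, 0, 0, 0, 0], [-2, 0, 0, 0, 0, 0, 0], [0, 0, -2, 0, 0, 0, 0], [0, 2, 0, 0, 0, 0, 0], [0, 0, 0, 0, 0, 0, 0]]
  | 4 => mk [[0, -1, 0, 0, 0, 0, 0], [0, 0, 0, 0, 0, 0, 0], [0, 0, 0, 0, 0, 0, 2], [0, 0, 0, 0, 0, -2, 0], [2, 0, 0, 0, 0, 0, 0], [0, 0, 0, 0, 0, 0, 0], [0, 0, 0, 0, 0, 0, 0]]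
  | 5 => mk [[0, 0, -1, 0, 0, 0, 0], [0, 0, 0, 0, 0, 0, -2], [0, 0, 0, 0, 0, 0, 0], [0, 0, 0, 0, 2, 0, 0], [0, 0, 0, 0, 0, 0, 0], [2, 0, 0, 0, 0, 0, 0], [0, 0, 0, 0, 0, 0, 0]]
  | 6 => mk [[0, 0, 0, -1, 0, 0, 0], [0, 0, 0, 0, 0, 2, 0], [0, 0, 0, 0, -2, 0, 0], [0, 0, 0, 0, 0, 0, 0], [0, 0, 0, 0, 0, 0, 0], [0, 0, 0, 0, 0, 0, 0], [2, 0, 0, 0, 0, 0, 0]]

/-- The coefficients of a root element in dimension seven. -/
def act (r : ℕ) : ℕ → M7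
  | 0 => 1
  | 1 => rootN r
  | 2 => match r with
    | 7 => mk [[0, 0, 0, 0, 0, 0, 0], [0, 0, 0, 0, -1, 0, 0], [0, 0, 0, 0, 0, 0, 0], [0, 0, 0, 0, 0, 0, 0], [0, 0, 0, 0, 0, 0, 0], [0, 0, 0, 0, 0, 0, 0], [0, 0, 0, 0, 0, 0, 0]]
    | 4 => mk [[0, 0, 0, 0, 0, 0, 0], [0, 0, 0, 0, 0, 0, 0], [0, 0, 0, 0, 0, 0, 0], [0, 0, 0, 0, 0, 0, 0], [0, -1, 0, 0, 0, 0, 0], [0, 0, 0, 0, 0, 0, 0], [0, 0, 0, 0, 0, 0, 0]]
    | _ => 0
  | _ => 0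

/-- The coefficient of `t ^ k` in a root element of the group. -/
def adj (r k : ℕ) : Matrix chevG2.Idx chevG2.Idx ℤ :=
  if k = 0 then 1 else
  Matrix.of fun row col =>
    match col with
    | Sum.inl i =>
      (match row with
       | Sum.inl _ => 0
       | Sum.inr u => if u.val = r ∧ k = 1 then -chevG2.cartan i.val r else 0)
    | Sum.inr s =>
      if s.val = r then 0
      else if s.val = chevG2.neg r then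
        (match row with
         | Sum.inl i => if k = 1 then (chevG2.coroot.getD r #[]).getD i.val 0 else 0
         | Sum.inr u => if u.val = r ∧ k = 2 then -1 else 0)
      else
        (match row with
         | Sum.inl _ => 0
         | Sum.inr u => (((chevG2.chainCoeff r s.val u.val).filter fun km => km.1 = k).map Prod.snd).sum)

/-- The indices of the basis, as a list. -/
def idxList : List chevG2.Idx :=
  (List.finRange 2).map Sum.inl ++ (List.finRange 12).map Sum.inr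

/-- The bilinear form. -/
def gram : M7 := mk [[2, 0, 0, 0, 0, 0, 0], [0, 0, 0, 0, 1, 0, 0], [0, 0, 0, 0, 0, 1, 0], [0, 0, 0, 0, 0, 0, 1],
  [0, 1, 0, 0, 0, 0, 0], [0, 0, 1, 0, 0, 0, 0], [0, 0, 0, 1, 0, 0, 0]]

/-- The four roots used. -/
def simples : List ℕ := [7, 4, 6, 5]

/-- The product of two matrices, unrolled. -/
def mm (A B : M7) : M7 := Matrix.of fun i j =>
  A i 0 * B 0 j + A i 1 * B 1 j + A i 2 * B 2 j + A i 3 * B 3 j + A i 4 * B 4 j + A i 5 * B 5 j + A i 6 * B 6 j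

theorem mm_eq (A B : M7) : mm A B = A * B := by
  ext i j
  simp [mm, Matrix.mul_apply, Fin.sum_univ_seven]

/-- The entry `(i, j)` of `∑ X l κ • G l`, skipping the zeros. -/
def colComb {κ : Type} (L : List κ) (G : κ → M7) (X : κ → κ → ℤ) (k : κ) : M7 :=
  Matrix.of fun i j => ((L.filter fun l => X l k ≠ 0).map fun l => X l k * G l i j).sum

/-- The check of one degree of the covariance of `G` under a root element. -/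
def covCheck {κ : Type} (L : List κ) (G : κ → M7) (r : ℕ) (X : ℕ → κ → κ → ℤ) : Bool :=
  L.all fun k => (List.range 6).all fun d =>
    (List.finRange 7).all fun i => (List.finRange 7).all fun j => decide ((mm (act r d) (G k) i j : ℤ) =
      ((List.range (d + 1)).map fun b => if d - b < 4 ∧ b < 3 then mm (colComb L G (X (d - b)) k) (act r b) i j else 0).sum)

theorem cov_gen : ∀ r ∈ simples, covCheck idxList gen r (fun k => adj r k) = true := by decide +kernel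

theorem cov_cross : ∀ r ∈ simples, covCheck (List.finRange 7) cross r (fun k => act r k) = true := by decide +kernel

theorem form_check : ∀ r ∈ simples, ∀ d < 5, ∀ i j,
    ((List.range (d + 1)).map fun b => if d - b < 3 ∧ b < 3 then mm (act r (d - b)).transpose (mm gram (act r b)) i j else 0).sum =
      if d = 0 then gram i j else 0 := by decide +kernel

/-- Products of root matrices with a single entry, in the first column. -/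
theorem units :
    mm (rootN 2) (mm (rootN 7) (mm (rootN 11) (rootN 2))) = Matrix.single 0 0 (-2) ∧
    mm (rootN 3) (mm (rootN 10) (rootN 4)) = Matrix.single 1 0 (-2) ∧
    mm (rootN 4) (mm (rootN 11) (rootN 3)) = Matrix.single 2 0 (-2) ∧
    mm (rootN 0) (mm (rootN 4) (rootN 9)) = Matrix.single 3 0 2 ∧
    mm (rootN 1) (mm (rootN 8) (rootN 7)) = Matrix.single 4 0 2 ∧
    mm (rootN 0) (mm (rootN 7) (rootN 8)) = Matrix.single 5 0 2 ∧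
    mm (rootN 7) (mm (rootN 11) (rootN 2)) = Matrix.single 6 0 (-2) := by decide +kernel

theorem chain_deg : ∀ r ∈ simples, ∀ s < 12, ∀ u < 12, ∀ km ∈ chevG2.chainCoeff r s u, 1 ≤ km.1 ∧ km.1 < 4 := by
  decide +kernel

end Cfsg.Agent.G2Orders
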