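/-
Root elements of type G₂ in dimension seven.

* `cov_of_check`, `adj_expand` : the covariance of the tables under the root elements
* `cov_gen_root`, `cov_cross_root`, `form_root`
-/
import Cfsg.Agent.Lib.G2Orders.Tables
import Cfsg.Agent.Lib.Chev.Matrix
import Cfsg.Agent.Lib.ChevBN.Torus

set_option autoImplicit false
set_option linter.unusedSectionVars false
set_option synthInstance.maxSize 4000
set_option maxRecDepth 100000

namespace Cfsg.Agent.G2Orders

open Cfsg Cfsg.Lie Cfsg.Lie.ChevalleyDatum Cfsg.Agent.Chev Cfsg.Agent.ChevBN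
open Matrix

variable {F : Type*} [Field F]

variable (F) in
/-- The image of an integral matrix. -/
def cm : M7 →+* Matrix (Fin 7) (Fin 7) F := (Int.castRingHom F).mapMatrix

theorem cm_apply (A : M7) (i j : Fin 7) : cm F A i j = (A i j : F) := rfl

/-- A combination of the images of integral matrices. -/
def comb {κ : Type} [Fintype κ] (G : κ → M7) : (κ → F) →ₗ[F] Matrix (Fin 7) (Fin 7) F :=
  Fintype.linearCombination F fun k => cm F (G k)

theorem comb_apply {κ : Type} [Fintype κ] (G : κ → M7) (v : κ → F) : comb G v = ∑ k, v k • cm F (G k) :=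
  Fintype.linearCombination_apply F _ v

theorem comb_single {κ : Type} [Fintype κ] [DecidableEq κ] (G : κ → M7) (k : κ) :
    comb G (Pi.single k (1 : F)) = cm F (G k) := by
  rw [comb, Fintype.linearCombination_apply_single, one_smul]

/-- A root element in dimension seven. -/
def rootA (r : ℕ) (t : F) : Matrix (Fin 7) (Fin 7) F := 1 + t • cm F (act r 1) + t ^ 2 • cm F (act r 2)

theorem rootA_eq (r : ℕ) (t : F) : rootA r t = cm F (act r 0) + t • cm F (act r 1) + t ^ 2 • cm F (act r 2) := by
  rw [rootA, show act r 0 = 1 from rfl, map_one]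

/-- The covariance of `G`. -/
def Cov {κ : Type} [Fintype κ] (G : κ → M7) (A : Matrix (Fin 7) (Fin 7) F) (M : Matrix κ κ F) : Prop :=
  ∀ v, A * comb G v = comb G (M *ᵥ v) * A

section Check

variable {κ : Type} [Fintype κ] [DecidableEq κ]

theorem cov_of_basis {G : κ → M7} {A : Matrix (Fin 7) (Fin 7) F} {M : Matrix κ κ F}
    (h : ∀ k, A * cm F (G k) = comb G (fun l => M l k) * A) : Cov G A M := by
  intro v
  have e : M *ᵥ v = ∑ k, v k • fun l => M l k := by
    ext l
    simp [Matrix.mulVec, dotProduct, mul_comm]
  rw [e, map_sum, Finset.sum_mul, comb_apply, Finset.mul_sum]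
  exact Finset.sum_congr rfl fun k _ => by rw [mul_smul_comm, h, map_smul, smul_mul_assoc]

theorem colComb_eq {L : List κ} (hnd : L.Nodup) (hall : ∀ l, l ∈ L) (G : κ → M7) (X : κ → κ → ℤ) (k : κ) :
    colComb L G X k = ∑ l, X l k • G l := by
  ext i j
  rw [colComb, Matrix.of_apply, Matrix.sum_apply]
  have h1 : ∀ L : List κ, ((L.filter fun l => X l k ≠ 0).map fun l => X l k * G l i j).sum =
      (L.map fun l => X l k * G l i j).sum := by
    intro L
    induction L with
    | nil => rfl
    | cons a L ih =>
      by_cases ha : X a k = 0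
      · simp_all [List.filter_cons]
      · simp_all [List.filter_cons]
  rw [h1, ← List.sum_toFinset _ hnd]
  have : L.toFinset = Finset.univ := Finset.eq_univ_iff_forall.2 fun l => List.mem_toFinset.2 (hall l)
  rw [this]
  simp

theorem cov_of_check {L : List κ} (hnd : L.Nodup) (hall : ∀ l, l ∈ L) {G : κ → M7} {r : ℕ}
    {X : ℕ → Matrix κ κ ℤ} (h : covCheck L G r (fun k => X k) = true) (t : F) :
    Cov G (rootA r t) ((X 0).map (Int.castRingHom F) + t • (X 1).map (Int.castRingHom F) +
      t ^ 2 • (X 2).map (Int.castRingHom F) + t ^ 3 • (X 3).map (Int.castRingHom F)) := by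
  refine cov_of_basis fun k => ?_
  set c := fun d => colComb L G (X d) k with hc
  have hd : ∀ d < 6, act r d * G k =
      ((List.range (d + 1)).map fun b => if d - b < 4 ∧ b < 3 then c (d - b) * act r b else 0).sum := by
    intro d hd
    simp only [covCheck, List.all_eq_true, decide_eq_true_eq, List.mem_range] at h
    ext i j
    rw [← mm_eq, h k (hall k) d hd i (List.mem_finRange i) j (List.mem_finRange j)]
    induction (List.range (d + 1)) with
    | nil => simp
    | cons b L ih =>
      rw [List.map_cons, List.sum_cons, List.map_cons, List.sum_cons, Matrix.add_apply, ← ih]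
      congr 1
      split <;> simp [hc, mm_eq]
  have a3 : act r 3 = 0 := rfl
  have a4 : act r 4 = 0 := rfl
  have a5 : act r 5 = 0 := rfl
  have e0 := hd 0 (by norm_num)
  have e1 := hd 1 (by norm_num)
  have e2 := hd 2 (by norm_num)
  have e3 := hd 3 (by norm_num)
  have e4 := hd 4 (by norm_num)
  have e5 := hd 5 (by norm_num)
  simp only [a3, a4, a5, zero_mul, List.range_succ, List.range_zero, List.nil_append, List.map_cons, List.map_nil,
    List.map_append, List.sum_cons, List.sum_nil, List.sum_append, add_zero] at e0 e1 e2 e3 e4 e5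
  norm_num at e0 e1 e2 e3 e4 e5
  replace e0 := congrArg (cm F) e0
  replace e1 := congrArg (cm F) e1
  replace e2 := congrArg (cm F) e2
  replace e3 := congrArg (cm F) e3
  replace e4 := congrArg (cm F) e4
  replace e5 := congrArg (cm F) e5
  simp only [map_mul, map_add, map_zero] at e0 e1 e2 e3 e4 e5
  have hcm : ∀ d, comb G (fun l => ((X d).map (Int.castRingHom F)) l k) = cm F (c d) := by
    intro d
    show _ = cm F (colComb L G (X d) k)
    rw [show colComb L G (X d) k = ∑ l, X d l k • G l from colComb_eq hnd hall G (X d) k, comb_apply, map_sum]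
    simp only [map_zsmul, Matrix.map_apply, eq_intCast, Int.cast_smul_eq_zsmul]
  have hcol : comb G (fun l => ((X 0).map (Int.castRingHom F) + t • (X 1).map (Int.castRingHom F) +
      t ^ 2 • (X 2).map (Int.castRingHom F) + t ^ 3 • (X 3).map (Int.castRingHom F)) l k) =
      cm F (c 0) + t • cm F (c 1) + t ^ 2 • cm F (c 2) + t ^ 3 • cm F (c 3) := by
    rw [← hcm 0, ← hcm 1, ← hcm 2, ← hcm 3, ← map_smul, ← map_smul, ← map_smul, ← map_add, ← map_add, ← map_add]
    rfl
  rw [hcol, rootA_eq]
  simp only [add_mul, mul_add, smul_mul_assoc, mul_smul_comm, smul_add, smul_smul]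
  linear_combination (norm := module) e0 + t • e1 + t ^ 2 • e2 + t ^ 3 • e3 + t ^ 4 • e4 + t ^ 5 • e5

end Check

theorem sum_chain {L : List (ℕ × ℤ)} (h : ∀ km ∈ L, 1 ≤ km.1 ∧ km.1 < 4) (t : F) :
    (L.map fun km => (km.2 : F) * t ^ km.1).sum =
      t * ((((L.filter fun km => km.1 = 1).map Prod.snd).sum : ℤ) : F) +
      t ^ 2 * ((((L.filter fun km => km.1 = 2).map Prod.snd).sum : ℤ) : F) +
      t ^ 3 * ((((L.filter fun km => km.1 = 3).map Prod.snd).sum : ℤ) : F) := by
  induction L with
  | nil => simp
  | cons a L ih =>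
    obtain ⟨k, m⟩ := a
    have hk := h _ List.mem_cons_self
    rw [List.map_cons, List.sum_cons, ih fun km hkm => h km (List.mem_cons_of_mem _ hkm)]
    simp only at hk
    obtain rfl | rfl | rfl : k = 1 ∨ k = 2 ∨ k = 3 := by omega
    all_goals simp [List.filter_cons]; ring

theorem adj_expand {r : ℕ} (hr : r ∈ simples) (t : F) :
    xR chevG2 F r t = (adj r 0).map (Int.castRingHom F) + t • (adj r 1).map (Int.castRingHom F) +
      t ^ 2 • (adj r 2).map (Int.castRingHom F) + t ^ 3 • (adj r 3).map (Int.castRingHom F) := by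
  have hr12 : r < 12 := (show ∀ r ∈ simples, r < 12 by decide) r hr
  have hne : chevG2.neg r ≠ r := Chev.DataG2.good.neg_ne r hr12
  have h := chain_deg r hr
  ext row col
  rcases row with i | u <;> rcases col with j | s <;>
    simp only [xR, adj, if_true, Matrix.add_apply, Matrix.smul_apply, Matrix.map_apply, Matrix.of_apply,
      Matrix.one_apply, smul_eq_mul, one_ne_zero, if_false, OfNat.ofNat_ne_zero, reduceCtorEq, Sum.inr.injEq,
      Sum.inl.injEq, eq_intCast]
  · by_cases h1 : i = j <;> simp [h1]
  · by_cases h1 : s.val = r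
    · simp [h1]
    by_cases h2 : s.val = chevG2.neg r <;> simp [h1, h2, hne, mul_comm]
  · by_cases h1 : u.val = r <;> simp [h1, mul_comm]
  · by_cases h1 : s.val = r
    · by_cases h3 : u = s
      · simp [h1, h3]
      · have : u.val ≠ r := fun e => h3 (Fin.ext (e.trans h1.symm))
        simp [h1, h3, this]
    by_cases h2 : s.val = chevG2.neg r
    · by_cases h3 : u = s
      · subst h3; simp [h1, h2, hne]
      · by_cases h4 : u.val = r <;> simp [h1, h2, h3, h4, hne]
    · rw [if_neg h1, if_neg h2, if_neg h1, if_neg h2, if_neg h1, if_neg h2, if_neg h1, if_neg h2,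
        sum_chain (h _ s.isLt _ u.isLt)]
      by_cases h3 : u = s <;> simp [h3] <;> ring

theorem idxList_ok : idxList.Nodup ∧ ∀ l, l ∈ idxList := by
  refine ⟨by decide +kernel, fun l => ?_⟩
  rcases l with i | i
  · exact List.mem_append_left _ (List.mem_map_of_mem (List.mem_finRange i))
  · exact List.mem_append_right _ (List.mem_map_of_mem (List.mem_finRange i))

theorem cov_gen_root {r : ℕ} (hr : r ∈ simples) (t : F) : Cov gen (rootA r t) (xR chevG2 F r t) := by
  rw [adj_expand hr]
  exact cov_of_check idxList_ok.1 idxList_ok.2 (cov_gen r hr) t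

theorem cov_cross_root {r : ℕ} (hr : r ∈ simples) (t : F) : Cov cross (rootA r t) (rootA r t) := by
  have h := cov_of_check (F := F) (List.nodup_finRange 7) List.mem_finRange (cov_cross r hr) t
  have e : (act r 0).map (Int.castRingHom F) + t • (act r 1).map (Int.castRingHom F) +
      t ^ 2 • (act r 2).map (Int.castRingHom F) + t ^ 3 • (act r 3).map (Int.castRingHom F) = rootA r t := by
    rw [rootA_eq, show act r 3 = 0 from rfl, Matrix.map_zero _ (map_zero _), smul_zero, add_zero]
    rfl
  rwa [e] at h

theorem form_root {r : ℕ} (hr : r ∈ simples) (t : F) : (rootA r t)ᵀ * cm F gram * rootA r t = cm F gram := by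
  have hd : ∀ d < 5, ((List.range (d + 1)).map fun b =>
      if d - b < 3 ∧ b < 3 then (act r (d - b))ᵀ * gram * act r b else 0).sum = if d = 0 then gram else 0 := by
    intro d hd
    ext i j
    have := form_check r hr d hd i j
    rw [show (if d = 0 then gram else 0) i j = if d = 0 then gram i j else 0 by split <;> rfl, ← this]
    induction (List.range (d + 1)) with
    | nil => simp
    | cons b L ih =>
      rw [List.map_cons, List.sum_cons, List.map_cons, List.sum_cons, Matrix.add_apply, ih]
      congr 1
      split <;> simp [mm_eq, mul_assoc]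
  have e0 := hd 0 (by norm_num)
  have e1 := hd 1 (by norm_num)
  have e2 := hd 2 (by norm_num)
  have e3 := hd 3 (by norm_num)
  have e4 := hd 4 (by norm_num)
  simp only [List.range_succ, List.range_zero, List.nil_append, List.map_cons, List.map_nil,
    List.map_append, List.sum_cons, List.sum_nil, List.sum_append, add_zero] at e0 e1 e2 e3 e4
  norm_num at e0 e1 e2 e3 e4
  have htr : ∀ A : M7, cm F Aᵀ = (cm F A)ᵀ := fun A => rfl
  replace e0 := congrArg (cm F) e0
  replace e1 := congrArg (cm F) e1
  replace e2 := congrArg (cm F) e2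
  replace e3 := congrArg (cm F) e3
  replace e4 := congrArg (cm F) e4
  simp only [map_mul, map_add, map_zero, htr] at e0 e1 e2 e3 e4
  rw [rootA_eq, Matrix.transpose_add, Matrix.transpose_add, Matrix.transpose_smul, Matrix.transpose_smul]
  simp only [add_mul, mul_add, smul_mul_assoc, mul_smul_comm, smul_add, smul_smul]
  linear_combination (norm := module) e0 + t • e1 + t ^ 2 • e2 + t ^ 3 • e3 + t ^ 4 • e4

end Cfsg.Agent.G2Orders
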