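/-
The seven dimensional representation of the Chevalley group of type G₂, characteristic not two.

* `Pairs`, `rho7` : the representation; `rho7_injective`, `rho7_xg`, `cross_rho7`
-/
import Cfsg.Agent.Lib.G2Orders.RootElt
import Cfsg.Agent.Lib.ChevSt.Auto
import Cfsg.Agent.Lib.Orth.Spinor
import Cfsg.Agent.Lib.G2Invol.Tables

set_option autoImplicit false
set_option linter.unusedSectionVars false
set_option synthInstance.maxSize 4000
set_option maxRecDepth 100000

namespace Cfsg.Agent.G2Orders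

open Cfsg Cfsg.Lie Cfsg.Lie.ChevalleyDatum Cfsg.Agent.Chev Cfsg.Agent.ChevBN
open Matrix

variable {F : Type*} [Field F]

/-! ### The pairs -/

variable (F) in
/-- The quadratic form. -/
def q7 : QuadraticForm F (Fin 7 → F) :=
  QuadraticMap.proj 0 0 + QuadraticMap.proj 1 4 + QuadraticMap.proj 2 5 + QuadraticMap.proj 3 6

theorem two_q7 (x : Fin 7 → F) : 2 * q7 F x = x ⬝ᵥ (cm F gram *ᵥ x) := by
  simp [q7, dotProduct, Matrix.mulVec, Fin.sum_univ_seven, cm_apply, gram, mk]
  ring

variable (F) in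
/-- Pairs of an automorphism of the product and the map it induces. -/
def Pairs : Subgroup (GL (Fin 7) F × GL chevG2.Idx F) where
  carrier := {p | (p.1 : Matrix (Fin 7) (Fin 7) F)ᵀ * cm F gram * (p.1 : Matrix (Fin 7) (Fin 7) F) = cm F gram ∧
    Cov cross (p.1 : Matrix (Fin 7) (Fin 7) F) (p.1 : Matrix (Fin 7) (Fin 7) F) ∧
    Cov gen (p.1 : Matrix (Fin 7) (Fin 7) F) (p.2 : Matrix chevG2.Idx chevG2.Idx F)}
  one_mem' := ⟨by simp, fun v => by simp, fun v => by simp⟩
  mul_mem' {p q} hp hq := by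
    refine ⟨?_, fun v => ?_, fun v => ?_⟩
    · simp only [Prod.fst_mul, Units.val_mul, Matrix.transpose_mul]
      rw [show ∀ a b c d e : Matrix (Fin 7) (Fin 7) F, a * b * c * (d * e) = a * (b * c * d) * e from
        fun a b c d e => by simp only [mul_assoc], hp.1, hq.1]
    · simp only [Prod.fst_mul, Units.val_mul, ← Matrix.mulVec_mulVec]
      rw [mul_assoc, hq.2.1, ← mul_assoc, hp.2.1, mul_assoc]
    · simp only [Prod.fst_mul, Prod.snd_mul, Units.val_mul, ← Matrix.mulVec_mulVec]
      rw [mul_assoc, hq.2.2, ← mul_assoc, hp.2.2, mul_assoc]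
  inv_mem' {p} hp := by
    refine ⟨?_, fun v => ?_, fun v => ?_⟩
    · conv_lhs => rw [← hp.1]
      simp only [Prod.fst_inv, mul_assoc, Units.mul_inv, mul_one]
      rw [← mul_assoc, ← Matrix.transpose_mul, Units.mul_inv, Matrix.transpose_one, one_mul]
    · have h := hp.2.1 (((p⁻¹).1 : Matrix (Fin 7) (Fin 7) F) *ᵥ v)
      rw [Matrix.mulVec_mulVec, Prod.fst_inv, Units.mul_inv, Matrix.one_mulVec] at h
      simp only [Prod.fst_inv]
      exact (Units.eq_mul_inv_iff_mul_eq _).2 (by rw [mul_assoc, ← h, ← mul_assoc, Units.inv_mul, one_mul])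
    · have h := hp.2.2 (((p⁻¹).2 : Matrix chevG2.Idx chevG2.Idx F) *ᵥ v)
      rw [Matrix.mulVec_mulVec, Prod.snd_inv, Units.mul_inv, Matrix.one_mulVec] at h
      simp only [Prod.fst_inv, Prod.snd_inv]
      exact (Units.eq_mul_inv_iff_mul_eq _).2 (by rw [mul_assoc, ← h, ← mul_assoc, Units.inv_mul, one_mul])

theorem cm_single (k l : Fin 7) (c : ℤ) : cm F (Matrix.single k l c) = Matrix.single k l (c : F) :=
  Matrix.map_single k l c (Int.castRingHom F)

theorem eq_one_of_cov {A : Matrix (Fin 7) (Fin 7) F} (h2 : (2 : F) ≠ 0) (hu : IsUnit A) (hx : Cov cross A A)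
    (hg : Cov gen A 1) : A = 1 := by
  have hN : ∀ r : Fin 12, Commute A (cm F (rootN r.val)) := fun r => by
    have h := hg (Pi.single (Sum.inr r) 1)
    rwa [Matrix.one_mulVec, comb_single] at h
  obtain ⟨u0, u1, u2, u3, u4, u5, u6⟩ := units
  have hcom : ∀ k : Fin 7, Commute A (Matrix.single k (0 : Fin 7) (1 : F)) := by
    have hw3 : ∀ {a b c : Fin 12} {k : Fin 7} {z : ℤ}, (z : F) ≠ 0 →
        mm (rootN a.val) (mm (rootN b.val) (rootN c.val)) = Matrix.single k 0 z →
        Commute A (Matrix.single k (0 : Fin 7) (1 : F)) := by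
      intro a b c k z hz e
      have h : Commute A (cm F (rootN a.val * (rootN b.val * rootN c.val))) := by
        rw [map_mul, map_mul]; exact (hN a).mul_right ((hN b).mul_right (hN c))
      rw [← mm_eq, ← mm_eq, e, cm_single] at h
      have := h.smul_right (z : F)⁻¹
      rwa [Matrix.smul_single, smul_eq_mul, inv_mul_cancel₀ hz] at this
    have hm2 : ((-2 : ℤ) : F) ≠ 0 := by simp [h2]
    have hp2 : ((2 : ℤ) : F) ≠ 0 := by simp [h2]
    intro k
    fin_cases k
    · have h : Commute A (cm F (rootN 2 * (rootN 7 * (rootN 11 * rootN 2)))) := by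
        rw [map_mul, map_mul, map_mul]; exact (hN 2).mul_right ((hN 7).mul_right ((hN 11).mul_right (hN 2)))
      rw [← mm_eq, ← mm_eq, ← mm_eq, u0, cm_single] at h
      have := h.smul_right ((-2 : ℤ) : F)⁻¹
      rwa [Matrix.smul_single, smul_eq_mul, inv_mul_cancel₀ hm2] at this
    · exact hw3 (a := 3) (b := 10) (c := 4) hm2 u1
    · exact hw3 (a := 4) (b := 11) (c := 3) hm2 u2
    · exact hw3 (a := 0) (b := 4) (c := 9) hp2 u3
    · exact hw3 (a := 1) (b := 8) (c := 7) hp2 u4
    · exact hw3 (a := 0) (b := 7) (c := 8) hp2 u5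
    · exact hw3 (a := 7) (b := 11) (c := 2) hm2 u6
  have hA : A = A 0 0 • (1 : Matrix (Fin 7) (Fin 7) F) := by
    ext i k
    have e := congrFun (congrFun (hcom k).eq i) 0
    rw [Matrix.mul_apply, Matrix.mul_apply, Finset.sum_eq_single k (fun b _ hb => by
        rw [Matrix.single_apply_of_row_ne hb.symm, mul_zero]) (fun hk => absurd (Finset.mem_univ _) hk),
      Matrix.single_apply_same, mul_one, Finset.sum_eq_single 0 (fun b _ hb => by
        rw [Matrix.single_apply_of_col_ne _ _ hb.symm, zero_mul]) (fun hk => absurd (Finset.mem_univ _) hk)] at e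
    rw [e, Matrix.smul_apply, Matrix.one_apply, smul_eq_mul]
    rcases eq_or_ne i k with rfl | hik
    · simp
    · rw [if_neg hik, mul_zero, Matrix.single_apply_of_row_ne hik.symm, zero_mul]
  generalize A 0 0 = c at hA
  subst hA
  have hc : c ≠ 0 := fun h => by simp [h] at hu
  have h := congrFun (congrFun (hx (Pi.single 0 1)) 1) 1
  rw [comb_single, Matrix.smul_mulVec, Matrix.one_mulVec, map_smul, comb_single] at h
  simp [cm_apply, cross, mk] at h
  rcases h with h | h
  · rw [show c = 1 from mul_right_cancel₀ h2 (by linear_combination -h), one_smul]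
  · exact absurd h hc

/-- The generators. -/
def rootGL {r : ℕ} (hr : r ∈ simples) (t : F) : GL (Fin 7) F :=
  ⟨rootA r t, rootA r (-t), rootA_mul_neg hr t, by simpa using rootA_mul_neg hr (-t)⟩
where
  rootA_mul_neg {r : ℕ} (hr : r ∈ simples) (t : F) : rootA r t * rootA r (-t) = 1 := by
    have hh : ∀ r ∈ simples, mm (act r 1) (act r 1) = act r 2 + act r 2 ∧
        mm (act r 1) (act r 2) = 0 ∧ mm (act r 2) (act r 1) = 0 ∧ mm (act r 2) (act r 2) = 0 := by decide +kernel
    simp only [mm_eq] at hh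
    obtain ⟨ea, eb, ec, ed⟩ := hh r hr
    have ea' : cm F (act r 1) * cm F (act r 1) = (2 : F) • cm F (act r 2) := by
      rw [← map_mul, ea, map_add, two_smul]
    simp only [rootA, mul_add, add_mul, one_mul, mul_one, smul_mul_assoc, mul_smul_comm, ← map_mul, eb, ec, ed,
      map_zero, smul_zero, add_zero]
    rw [map_mul, ea']
    module

theorem simples_mem (i : ℕ) (hi : i < chevG2.rank) :
    chevG2.simple i ∈ simples ∧ chevG2.neg (chevG2.simple i) ∈ simples :=
  (show ∀ i < 2, chevG2.simple i ∈ simples ∧ chevG2.neg (chevG2.simple i) ∈ simples by decide +kernel) i hi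

variable (F) in
/-- The generated pairs. -/
def Gens : Subgroup (GL (Fin 7) F × GL chevG2.Idx F) :=
  Subgroup.closure (Set.range fun p : {r // r ∈ simples} × F =>
    (rootGL p.1.2 p.2, xg DataG2.good F p.1.1 p.2))

theorem gens_le : Gens F ≤ Pairs F := by
  rw [Gens, Subgroup.closure_le]
  rintro _ ⟨⟨⟨r, hr⟩, t⟩, rfl⟩
  refine ⟨form_root hr t, cov_cross_root hr t, ?_⟩
  show Cov gen (rootA r t) (xg DataG2.good F r t : Matrix chevG2.Idx chevG2.Idx F)
  rw [coe_xg, x_eq_xR chevG2 ((show ∀ r ∈ simples, r < chevG2.nroots by decide +kernel) r hr)]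
  exact cov_gen_root hr t

theorem map_snd : (Gens F).map (MonoidHom.snd _ _) = chevG2.group F := by
  refine le_antisymm ?_ (ChevSt.group_le_of_simple DataG2.good rootsG2 fun i hi t => ⟨?_, ?_⟩)
  · rw [Gens, MonoidHom.map_closure, Subgroup.closure_le]
    rintro _ ⟨_, ⟨p, rfl⟩, rfl⟩
    exact xg_mem_group DataG2.good _ _
  · exact ⟨_, Subgroup.subset_closure ⟨(⟨_, (simples_mem i hi).1⟩, t), rfl⟩, rfl⟩
  · exact ⟨_, Subgroup.subset_closure ⟨(⟨_, (simples_mem i hi).2⟩, t), rfl⟩, rfl⟩

variable (F) in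
/-- The second projection. -/
def sndHom : Gens F →* chevG2.group F :=
  ((MonoidHom.snd _ _).comp (Gens F).subtype).codRestrict _ fun p => map_snd (F := F) ▸ ⟨p.1, p.2, rfl⟩

theorem sndHom_bijective (h2 : (2 : F) ≠ 0) : Function.Bijective (sndHom F) := by
  constructor
  · refine (injective_iff_map_eq_one _).2 fun p hp => ?_
    have e2 : (p.1.2 : GL chevG2.Idx F) = 1 := congrArg Subtype.val hp
    obtain ⟨-, hx, hg⟩ := gens_le p.2
    rw [e2, Units.val_one] at hg
    exact Subtype.ext (Prod.ext (Units.ext (eq_one_of_cov h2 p.1.1.isUnit hx hg)) e2)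
  · rintro ⟨g, hg⟩
    rw [← map_snd] at hg
    obtain ⟨p, hp, rfl⟩ := hg
    exact ⟨⟨p, hp⟩, rfl⟩

variable (h2 : (2 : F) ≠ 0)

/-- The representation in `GL₇`. -/
noncomputable def rho0 : chevG2.group F →* GL (Fin 7) F :=
  ((MonoidHom.fst _ _).comp (Gens F).subtype).comp (MulEquiv.ofBijective _ (sndHom_bijective h2)).symm.toMonoidHom

theorem rho0_mem (g : chevG2.group F) :
    (rho0 h2 g, (g : GL chevG2.Idx F)) ∈ Pairs F := by
  obtain ⟨p, rfl⟩ := (sndHom_bijective h2).2 g
  show (((MulEquiv.ofBijective _ (sndHom_bijective h2)).symm (sndHom F p)).1.1, _) ∈ _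
  rw [show (MulEquiv.ofBijective _ (sndHom_bijective h2)).symm (sndHom F p) = p from
    (MulEquiv.ofBijective _ (sndHom_bijective h2)).symm_apply_apply p]
  exact gens_le p.2

theorem rho0_preserves (g : chevG2.group F) : rho0 h2 g ∈ isometryGroup F ⇑(q7 F) := by
  intro x v
  have h := (rho0_mem h2 g).1
  show q7 F ((rho0 h2 g : Matrix (Fin 7) (Fin 7) F) *ᵥ x) = q7 F x
  refine mul_left_cancel₀ h2 ?_
  rw [two_q7, two_q7]
  conv_rhs => rw [← h]
  rw [← Matrix.mulVec_mulVec, ← Matrix.mulVec_mulVec, Matrix.dotProduct_mulVec _ (_ᵀ), Matrix.vecMul_transpose]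

/-- The representation. -/
noncomputable def rho7 : chevG2.group F →* Orth.IsoGrp (q7 F) :=
  (rho0 h2).codRestrict _ (rho0_preserves h2)

theorem comb_gen_injective : Function.Injective (comb (F := F) gen) := by
  rw [← LinearMap.ker_eq_bot, LinearMap.ker_eq_bot']
  intro v hv
  have e := fun i j => congrFun (congrFun hv i) j
  simp only [comb_apply, Matrix.sum_apply, Matrix.smul_apply, smul_eq_mul, cm_apply, Fintype.sum_sum_type,
    Matrix.zero_apply] at e
  replace e : ∀ i j, (∑ a : Fin 2, v (Sum.inl a) * (corH a.val i j : F)) +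
      ∑ a : Fin 12, v (Sum.inr a) * (rootN a.val i j : F) = 0 := e
  simp only [Fin.sum_univ_succ, Fin.sum_univ_zero] at e
  have ha := e 3 3; have hb := e 2 2
  have r0 := e 3 2; have r1 := e 3 1; have r2 := e 0 6; have r3 := e 0 2; have r4 := e 0 1; have r5 := e 1 2
  have r6 := e 2 1; have r7 := e 0 4; have r8 := e 0 5; have r9 := e 0 3; have r10 := e 1 3; have r11 := e 2 3
  simp [corH, rootN, mk] at ha hb r0 r1 r2 r3 r4 r5 r6 r7 r8 r9 r10 r11
  funext k
  have hl : ∀ k : Fin 2, v (Sum.inl k) = 0 := Fin.forall_fin_two.2 ⟨ha, by linear_combination hb + ha⟩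
  have hr : ∀ k : Fin 12, v (Sum.inr k) = 0 := by
    intro k
    fin_cases k
    exacts [r0, r1, r2, r3, r4, r5, r6, r7, r8, r9, r10, r11]
  rcases k with k | k
  · exact hl k
  · exact hr k

theorem rho7_injective : Function.Injective (rho7 h2) := by
  refine (injective_iff_map_eq_one _).2 fun g hg => ?_
  have hg' : rho0 h2 g = 1 := congrArg Subtype.val hg
  obtain ⟨-, -, h⟩ := rho0_mem h2 g
  rw [hg', Units.val_one] at h
  refine Subtype.ext (Units.ext (Matrix.ext_of_mulVec_single fun k => comb_gen_injective ?_))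
  have := h (Pi.single k 1)
  rw [one_mul, mul_one] at this
  show comb gen (((g : GL chevG2.Idx F) : Matrix chevG2.Idx chevG2.Idx F) *ᵥ _) = comb gen ((1 : Matrix chevG2.Idx chevG2.Idx F) *ᵥ _)
  rw [Matrix.one_mulVec]
  exact this.symm

theorem rho7_xg {r : ℕ} (hr : r ∈ simples) (t : F) :
    ((rho7 h2 ⟨xg DataG2.good F r t, xg_mem_group DataG2.good _ _⟩ : Orth.IsoGrp (q7 F)) : GL (Fin 7) F) = rootGL hr t := by
  let p : Gens F := ⟨_, Subgroup.subset_closure ⟨(⟨r, hr⟩, t), rfl⟩⟩
  show rho0 h2 (sndHom F p) = _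
  show ((MulEquiv.ofBijective _ (sndHom_bijective h2)).symm (sndHom F p)).1.1 = _
  rw [show (MulEquiv.ofBijective _ (sndHom_bijective h2)).symm (sndHom F p) = p from
    (MulEquiv.ofBijective _ (sndHom_bijective h2)).symm_apply_apply p]

theorem cross_rho7 (g : chevG2.group F) :
    Cov cross ((rho7 h2 g : GL (Fin 7) F) : Matrix (Fin 7) (Fin 7) F)
      ((rho7 h2 g : GL (Fin 7) F) : Matrix (Fin 7) (Fin 7) F) :=
  (rho0_mem h2 g).2.1

end Cfsg.Agent.G2Orders
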