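/-
The exponents and multiplicities allowed by the shape `1, a, b, c, a⁻¹, b⁻¹, c⁻¹`, `a b c = 1`, of the eigenvalues.

* `shape`
-/
import Cfsg.Agent.EqLemmas

set_option autoImplicit false

namespace Cfsg.Agent.G2Orders

variable {K : Type*} [Field K]

/-- The eigenvalues. -/
def roots7 (a b c : K) : Multiset K :=
  1 ::ₘ (({a, b, c} : Multiset K) + ({a⁻¹, b⁻¹, c⁻¹} : Multiset K))

/-- The triple is sent to itself or to its inverse by the power map. -/
def Stable (q : ℕ) (a b c : K) : Prop :=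
  ({a, b, c} : Multiset K).map (· ^ q) = {a, b, c} ∨ ({a, b, c} : Multiset K).map (· ^ q) = {a⁻¹, b⁻¹, c⁻¹}

theorem pair_cases {x y a b : K} (h : ({x, y} : Multiset K) = {a, b}) : (x = a ∧ y = b) ∨ (x = b ∧ y = a) := by
  rcases Multiset.cons_eq_cons.1 h with ⟨rfl, h'⟩ | ⟨-, u, h1, h2⟩
  · exact .inl ⟨rfl, by simpa using h'⟩
  · rw [Multiset.singleton_eq_cons_iff] at h1 h2
    obtain ⟨rfl, rfl⟩ := h1
    obtain ⟨rfl, -⟩ := h2
    exact .inr ⟨rfl, rfl⟩

theorem triple_cases {x y z a b c : K} (h : ({x, y, z} : Multiset K) = {a, b, c}) :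
    (x = a ∧ y = b ∧ z = c) ∨ (x = a ∧ y = c ∧ z = b) ∨ (x = b ∧ y = a ∧ z = c) ∨ (x = b ∧ y = c ∧ z = a) ∨
      (x = c ∧ y = a ∧ z = b) ∨ (x = c ∧ y = b ∧ z = a) := by
  have hx : x ∈ ({a, b, c} : Multiset K) := h ▸ Multiset.mem_cons_self x _
  simp at hx
  rcases hx with rfl | rfl | rfl
  · rcases pair_cases ((Multiset.cons_inj_right x).1 h) with ⟨h1, h2⟩ | ⟨h1, h2⟩ <;> simp [h1, h2]
  · rw [show ({a, x, c} : Multiset K) = {x, a, c} from Multiset.cons_swap a x _] at h
    rcases pair_cases ((Multiset.cons_inj_right x).1 h) with ⟨h1, h2⟩ | ⟨h1, h2⟩ <;> simp [h1, h2]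
  · rw [show ({a, b, x} : Multiset K) = {x, a, b} from by
      simp only [Multiset.insert_eq_cons, ← Multiset.singleton_add]; abel] at h
    rcases pair_cases ((Multiset.cons_inj_right x).1 h) with ⟨h1, h2⟩ | ⟨h1, h2⟩ <;> simp [h1, h2]

theorem roots7_pow {a b c : K} {N : ℕ} (ha : a ^ N = 1) (hb : b ^ N = 1) (hc : c ^ N = 1) :
    ∀ x ∈ roots7 a b c, x ^ N = 1 := by
  intro x hx
  simp [roots7] at hx
  rcases hx with h | h | h | h | h | h | h <;> simp [h, ha, hb, hc]

theorem pow_pred_eq_one {a : K} (ha : a ≠ 0) {n : ℕ} (h : a ^ n = a) : a ^ (n - 1) = 1 := by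
  rcases Nat.eq_zero_or_pos n with rfl | hn
  · simp
  · refine mul_right_cancel₀ ha ?_
    rw [← pow_succ, Nat.sub_add_cancel hn, h, one_mul]

theorem pow_succ_eq_one {a : K} (ha : a ≠ 0) {n : ℕ} (h : a ^ n = a⁻¹) : a ^ (n + 1) = 1 := by
  rw [pow_succ, h, inv_mul_cancel₀ ha]

/-- The exponents without a coincidence. -/
theorem stable_exponent {q : ℕ} (hq : 1 ≤ q) {a b c : K} (h : a * b * c = 1) (hs : Stable q a b c) :
    ∃ N ∈ ({q ^ 2 - 1, q ^ 2 + q + 1, q ^ 2 - q + 1} : Set ℕ), a ^ N = 1 ∧ b ^ N = 1 ∧ c ^ N = 1 := by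
  have ha : a ≠ 0 := fun e => by simp [e] at h
  have hb : b ≠ 0 := fun e => by simp [e] at h
  have hc : c ≠ 0 := fun e => by simp [e] at h
  have hsq : ∀ {x : K}, (x ^ q) ^ q = x → x ≠ 0 → x ^ (q ^ 2 - 1) = 1 := fun {x} hx hx0 =>
    pow_pred_eq_one hx0 (by rwa [pow_two, pow_mul])
  have hcyc : ∀ {x y z : K}, x * y * z = 1 → x ^ q = y → y ^ q = z → x ^ (q ^ 2 + q + 1) = 1 := by
    intro x y z hp h1 h2
    rw [pow_add, pow_add, pow_one, pow_two, pow_mul, h1, h2, ← hp]
    ring
  have hcyc' : ∀ {x y z : K}, x * y * z = 1 → x ^ q = y⁻¹ → y ^ q = z⁻¹ → x ^ (q ^ 2 - q + 1) = 1 := by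
    intro x y z hp h1 h2
    have hx : x ≠ 0 := fun e => by simp [e] at hp
    have hy : y ≠ 0 := fun e => by simp [e] at hp
    have e1 : x ^ (q ^ 2 - q) * x ^ q = z := by
      rw [← pow_add, Nat.sub_add_cancel (by nlinarith), pow_two, pow_mul, h1, inv_pow, h2, inv_inv]
    rw [h1] at e1
    rw [pow_succ, show x ^ (q ^ 2 - q) = z * y by rw [← e1]; field_simp, ← hp]
    ring
  rcases hs with hs | hs <;> simp only [Multiset.insert_eq_cons, Multiset.map_cons, Multiset.map_singleton] at hs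
  · rcases triple_cases hs with ⟨h1, h2, h3⟩ | ⟨h1, h2, h3⟩ | ⟨h1, h2, h3⟩ | ⟨h1, h2, h3⟩ | ⟨h1, h2, h3⟩ | ⟨h1, h2, h3⟩
    · exact ⟨q ^ 2 - 1, by simp, hsq (by rw [h1, h1]) ha, hsq (by rw [h2, h2]) hb, hsq (by rw [h3, h3]) hc⟩
    · exact ⟨q ^ 2 - 1, by simp, hsq (by rw [h1, h1]) ha, hsq (by rw [h2, h3]) hb, hsq (by rw [h3, h2]) hc⟩
    · exact ⟨q ^ 2 - 1, by simp, hsq (by rw [h1, h2]) ha, hsq (by rw [h2, h1]) hb, hsq (by rw [h3, h3]) hc⟩
    · exact ⟨q ^ 2 + q + 1, by simp, hcyc h h1 h2, hcyc (by linear_combination h) h2 h3,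
        hcyc (by linear_combination h) h3 h1⟩
    · exact ⟨q ^ 2 + q + 1, by simp, hcyc (by linear_combination h) h1 h3, hcyc (by linear_combination h) h2 h1,
        hcyc (by linear_combination h) h3 h2⟩
    · exact ⟨q ^ 2 - 1, by simp, hsq (by rw [h1, h3]) ha, hsq (by rw [h2, h2]) hb, hsq (by rw [h3, h1]) hc⟩
  · rcases triple_cases hs with ⟨h1, h2, h3⟩ | ⟨h1, h2, h3⟩ | ⟨h1, h2, h3⟩ | ⟨h1, h2, h3⟩ | ⟨h1, h2, h3⟩ | ⟨h1, h2, h3⟩
    · exact ⟨q ^ 2 - 1, by simp, hsq (by simp [h1]) ha, hsq (by simp [h2]) hb, hsq (by simp [h3]) hc⟩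
    · exact ⟨q ^ 2 - 1, by simp, hsq (by simp [h1]) ha, hsq (by simp [h2, h3]) hb, hsq (by simp [h3, h2]) hc⟩
    · exact ⟨q ^ 2 - 1, by simp, hsq (by simp [h1, h2]) ha, hsq (by simp [h2, h1]) hb, hsq (by simp [h3]) hc⟩
    · exact ⟨q ^ 2 - q + 1, by simp, hcyc' h h1 h2, hcyc' (by linear_combination h) h2 h3,
        hcyc' (by linear_combination h) h3 h1⟩
    · exact ⟨q ^ 2 - q + 1, by simp, hcyc' (by linear_combination h) h1 h3, hcyc' (by linear_combination h) h2 h1,
        hcyc' (by linear_combination h) h3 h2⟩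
    · exact ⟨q ^ 2 - 1, by simp, hsq (by simp [h1, h3]) ha, hsq (by simp [h2]) hb, hsq (by simp [h3, h1]) hc⟩

/-- The exponents with a coincidence. -/
theorem stable_small {q : ℕ} (hq : 1 ≤ q) {a b c : K} (h : a * b * c = 1) (hs : Stable q a b c)
    (he : b = a ∨ c = 1) : ∃ N ∈ ({q - 1, q + 1} : Set ℕ), a ^ N = 1 ∧ b ^ N = 1 ∧ c ^ N = 1 := by
  have ha : a ≠ 0 := fun e => by simp [e] at h
  have key : ∀ N : ℕ, a ^ N = 1 → a ^ N = 1 ∧ b ^ N = 1 ∧ c ^ N = 1 := by
    intro N hN
    have hb : b ^ N = 1 := by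
      rcases he with rfl | rfl
      · exact hN
      · have := congrArg (· ^ N) h
        simpa [mul_pow, hN] using this
    exact ⟨hN, hb, by have := congrArg (· ^ N) h; simpa [mul_pow, hN, hb] using this⟩
  suffices a ^ q = a ∨ a ^ q = a⁻¹ by
    rcases this with e | e
    · exact ⟨q - 1, by simp, key _ (pow_pred_eq_one ha e)⟩
    · exact ⟨q + 1, by simp, key _ (pow_succ_eq_one ha e)⟩
  rcases he with rfl | rfl
  · rcases hs with hs | hs <;>
      simp only [Multiset.insert_eq_cons, Multiset.map_cons, Multiset.map_singleton] at hs <;>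
      rcases triple_cases hs with ⟨h1, h2, h3⟩ | ⟨h1, h2, h3⟩ | ⟨h1, h2, h3⟩ | ⟨h1, h2, h3⟩ | ⟨h1, h2, h3⟩ | ⟨h1, h2, h3⟩
    all_goals first
      | exact .inl h1
      | exact .inr h1
      | exact .inl h2
      | exact .inr h2
  · have hb : b = a⁻¹ := eq_inv_of_mul_eq_one_right (by simpa using h)
    subst hb
    have hone : a ^ q = 1 → a = 1 := fun e => by
      rcases hs with hs | hs <;>
        simp only [Multiset.insert_eq_cons, Multiset.map_cons, Multiset.map_singleton, inv_pow, e, inv_one, one_pow,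
          inv_inv] at hs <;>
        rcases triple_cases hs with ⟨h1, h2, h3⟩ | ⟨h1, h2, h3⟩ | ⟨h1, h2, h3⟩ | ⟨h1, h2, h3⟩ | ⟨h1, h2, h3⟩ | ⟨h1, h2, h3⟩
      all_goals first
        | exact h1.symm
        | exact h2.symm
        | exact inv_eq_one.1 h1.symm
        | exact inv_eq_one.1 h2.symm
    have : a ^ q = a ∨ a ^ q = a⁻¹ ∨ a ^ q = 1 := by
      have hm : a ^ q ∈ ({a, a⁻¹, (1 : K)} : Multiset K) := by
        rcases hs with hs | hs
        · exact hs ▸ Multiset.mem_map_of_mem _ (Multiset.mem_cons_self a _)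
        · have := hs ▸ Multiset.mem_map_of_mem (· ^ q) (Multiset.mem_cons_self a {a⁻¹, (1 : K)})
          simp at this ⊢
          tauto
      simpa using hm
    rcases this with e | e | e
    · exact .inl e
    · exact .inr e
    · exact .inl (by rw [e, hone e])

theorem count_add_count_inv_le [DecidableEq K] {x : K} (hx : x ≠ x⁻¹) (M : Multiset K) :
    M.count x + M.count x⁻¹ ≤ Multiset.card M := by
  induction M using Multiset.induction_on with
  | empty => simp
  | cons y M ih =>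
    rw [Multiset.count_cons, Multiset.count_cons, Multiset.card_cons]
    split_ifs with h1 h2
    · exact absurd (h1.trans h2.symm) hx
    all_goals omega

theorem count_roots7 [DecidableEq K] (a b c x : K) :
    (roots7 a b c).count x =
      (if x = 1 then 1 else 0) + (({a, b, c} : Multiset K).count x + ({a, b, c} : Multiset K).count x⁻¹) := by
  rw [roots7, Multiset.count_cons, Multiset.count_add,
    show ({a⁻¹, b⁻¹, c⁻¹} : Multiset K) = ({a, b, c} : Multiset K).map (·⁻¹) by simp]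
  conv_lhs => arg 1; arg 2; rw [← inv_inv x]
  rw [Multiset.count_map_eq_count' _ _ inv_injective]
  omega

/-- The three kinds of shapes. -/
theorem shape [DecidableEq K] (h2 : (2 : K) ≠ 0) {q : ℕ} (hq : 1 ≤ q) {a b c : K} (h : a * b * c = 1)
    (hs : Stable q a b c) :
    (∃ N ∈ ({q ^ 2 - 1, q ^ 2 + q + 1, q ^ 2 - q + 1} : Set ℕ), (∀ x ∈ roots7 a b c, x ^ N = 1) ∧
        ∀ x, (roots7 a b c).count x ≤ 1 ∨ (x = -1 ∧ (roots7 a b c).count x ≤ 2)) ∨
      (∃ N ∈ ({q - 1, q + 1} : Set ℕ), (∀ x ∈ roots7 a b c, x ^ N = 1) ∧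
        ∀ x, (roots7 a b c).count x ≤ 3 ∨ (x = -1 ∧ (roots7 a b c).count x ≤ 4)) ∨
      ∀ x ∈ roots7 a b c, x = 1 := by
  have hneg : (-1 : K) ≠ 1 := fun e => h2 (by linear_combination -e)
  by_cases hall : a = 1 ∧ b = 1
  · refine .inr (.inr fun x hx => ?_)
    obtain ⟨rfl, rfl⟩ := hall
    have : c = 1 := by simpa using h
    subst this
    simpa [roots7] using hx
  have hinv : ∀ x : K, x ≠ 1 → x ≠ -1 → x ≠ 0 → x ≠ x⁻¹ := fun x h1 h2' h0 e => by
    have e2 : x * x = 1 := by
      nth_rw 2 [e]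
      exact mul_inv_cancel₀ h0
    rcases mul_self_eq_one_iff.1 e2 with r | r
    · exact h1 r
    · exact h2' r
  by_cases hco : b = a ∨ c = b ∨ a = c ∨ a = 1 ∨ b = 1 ∨ c = 1
  · refine .inr (.inl ?_)
    obtain ⟨N, hN, hNa, hNb, hNc⟩ : ∃ N ∈ ({q - 1, q + 1} : Set ℕ), a ^ N = 1 ∧ b ^ N = 1 ∧ c ^ N = 1 := by
      have hrot : Stable q b c a := by
        rwa [Stable, show ({b, c, a} : Multiset K) = {a, b, c} by
          simp only [Multiset.insert_eq_cons, ← Multiset.singleton_add]; abel,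
          show ({b⁻¹, c⁻¹, a⁻¹} : Multiset K) = {a⁻¹, b⁻¹, c⁻¹} by
          simp only [Multiset.insert_eq_cons, ← Multiset.singleton_add]; abel]
      have hrot' : Stable q c a b := by
        rwa [Stable, show ({c, a, b} : Multiset K) = {a, b, c} by
          simp only [Multiset.insert_eq_cons, ← Multiset.singleton_add]; abel,
          show ({c⁻¹, a⁻¹, b⁻¹} : Multiset K) = {a⁻¹, b⁻¹, c⁻¹} by
          simp only [Multiset.insert_eq_cons, ← Multiset.singleton_add]; abel]
      have h1 : b * c * a = 1 := by linear_combination h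
      have h2 : c * a * b = 1 := by linear_combination h
      rcases hco with e | e | e | e | e | e
      · exact stable_small hq h hs (.inl e)
      · obtain ⟨N, hN, x, y, z⟩ := stable_small hq h1 hrot (.inl e); exact ⟨N, hN, z, x, y⟩
      · obtain ⟨N, hN, x, y, z⟩ := stable_small hq h2 hrot' (.inl e); exact ⟨N, hN, y, z, x⟩
      · obtain ⟨N, hN, x, y, z⟩ := stable_small hq h1 hrot (.inr e); exact ⟨N, hN, z, x, y⟩
      · obtain ⟨N, hN, x, y, z⟩ := stable_small hq h2 hrot' (.inr e); exact ⟨N, hN, y, z, x⟩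
      · exact stable_small hq h hs (.inr e)
    refine ⟨N, hN, roots7_pow hNa hNb hNc, fun x => ?_⟩
    rw [count_roots7]
    by_cases h1 : x = 1
    · subst h1
      refine .inl ?_
      rw [if_pos rfl, inv_one]
      have : ({a, b, c} : Multiset K).count 1 ≤ 1 := by
        simp only [Multiset.insert_eq_cons, Multiset.count_cons, Multiset.count_singleton]
        split_ifs with x y z <;> try omega
        all_goals exfalso; apply hall; subst_vars; simp_all
      omega
    · rw [if_neg h1, zero_add]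
      by_cases hm : x = -1
      · subst hm
        refine .inr ⟨rfl, ?_⟩
        rw [inv_neg, inv_one]
        have : ({a, b, c} : Multiset K).count (-1) ≤ 2 := by
          simp only [Multiset.insert_eq_cons, Multiset.count_cons, Multiset.count_singleton]
          split_ifs with x y z <;> try omega
          subst_vars
          norm_num at h
          exact absurd h hneg
        omega
      · refine .inl ?_
        by_cases h0 : x = 0
        · subst h0
          have hab : a ≠ 0 ∧ b ≠ 0 ∧ c ≠ 0 := ⟨fun e => by simp [e] at h, fun e => by simp [e] at h, fun e => by simp [e] at h⟩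
          simp [hab.1.symm, hab.2.1.symm, hab.2.2.symm]
        · exact (count_add_count_inv_le (hinv x h1 hm h0) _).trans (by simp)
  · simp only [not_or] at hco
    obtain ⟨hba, hcb, hac, ha1, hb1, hc1⟩ := hco
    obtain ⟨N, hN, hNa, hNb, hNc⟩ := stable_exponent hq h hs
    refine .inl ⟨N, hN, roots7_pow hNa hNb hNc, fun x => ?_⟩
    rw [count_roots7]
    have hnd : ({a, b, c} : Multiset K).Nodup := by simp [hba, hcb, hac, Ne.symm hba, Ne.symm hcb]
    have hle : ∀ y, ({a, b, c} : Multiset K).count y ≤ 1 := Multiset.nodup_iff_count_le_one.1 hnd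
    have h1m : (1 : K) ∉ ({a, b, c} : Multiset K) := by simp [Ne.symm ha1, Ne.symm hb1, Ne.symm hc1]
    by_cases h1 : x = 1
    · subst h1
      refine .inl ?_
      rw [if_pos rfl, inv_one, Multiset.count_eq_zero_of_notMem h1m]
    · rw [if_neg h1, zero_add]
      by_cases hm : x = -1
      · subst hm
        refine .inr ⟨rfl, ?_⟩
        rw [inv_neg, inv_one]
        have := hle (-1)
        omega
      · refine .inl ?_
        by_contra hcon
        have i1 := hle x
        have i2 := hle x⁻¹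
        have m1 : x ∈ ({a, b, c} : Multiset K) := Multiset.count_pos.1 (by omega)
        have m2 : x⁻¹ ∈ ({a, b, c} : Multiset K) := Multiset.count_pos.1 (by omega)
        have hx0 : x ≠ 0 := fun e => by
          subst e
          simp at m1
          rcases m1 with e | e | e <;> simp [← e] at h
        have hne := hinv x h1 hm hx0
        have hmul := mul_inv_cancel₀ hx0
        simp at m1 m2
        rcases m1 with e | e | e <;> rcases m2 with e' | e' | e' <;> rw [e] at hmul hne <;> rw [e] at e' <;>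
          rw [e'] at hmul hne
        all_goals first
          | exact hne rfl
          | exact hc1 (by linear_combination h - c * hmul)
          | exact hb1 (by linear_combination h - b * hmul)
          | exact ha1 (by linear_combination h - a * hmul)

end Cfsg.Agent.G2Orders
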