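/-
The product on seven dimensional space and its automorphisms of order prime to the characteristic.

* `cr`, `bf` : the product and the bilinear form, with their identities
* `exists_fixed` : an automorphism of order prime to the characteristic fixes a non-isotropic vector
-/
import Cfsg.Agent.Lib.G2Orders.RootElt

set_option autoImplicit false
set_option linter.unusedSectionVars false

namespace Cfsg.Agent.G2Orders

open Matrix

variable {F : Type*} [Field F]

/-- The product. -/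
def cr (x y : Fin 7 → F) : Fin 7 → F := comb cross x *ᵥ y

/-- The bilinear form. -/
def bf (x y : Fin 7 → F) : F := x ⬝ᵥ (cm F gram *ᵥ y)

theorem cr_eq (x y : Fin 7 → F) : cr x y =
    ![x 1 * y 4 + x 2 * y 5 + x 3 * y 6 - (x 4 * y 1 + x 5 * y 2 + x 6 * y 3),
      2 * (x 0 * y 1 - y 0 * x 1) - 2 * (x 5 * y 6 - x 6 * y 5),
      2 * (x 0 * y 2 - y 0 * x 2) - 2 * (x 6 * y 4 - x 4 * y 6),
      2 * (x 0 * y 3 - y 0 * x 3) - 2 * (x 4 * y 5 - x 5 * y 4),
      2 * (y 0 * x 4 - x 0 * y 4) + 2 * (x 2 * y 3 - x 3 * y 2),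
      2 * (y 0 * x 5 - x 0 * y 5) + 2 * (x 3 * y 1 - x 1 * y 3),
      2 * (y 0 * x 6 - x 0 * y 6) + 2 * (x 1 * y 2 - x 2 * y 1)] := by
  ext i
  fin_cases i <;> simp [cr, comb_apply, Matrix.sum_mulVec, Matrix.mulVec, dotProduct, Fin.sum_univ_seven,
    cm_apply, cross, mk] <;> ring

theorem bf_eq (x y : Fin 7 → F) : bf x y = 2 * x 0 * y 0 + x 1 * y 4 + x 2 * y 5 + x 3 * y 6 + x 4 * y 1 +
    x 5 * y 2 + x 6 * y 3 := by
  simp [bf, Matrix.mulVec, dotProduct, Fin.sum_univ_seven, cm_apply, gram, mk]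
  ring

theorem bf_comm (x y : Fin 7 → F) : bf x y = bf y x := by simp only [bf_eq]; ring

theorem bf_add_left (x x' y : Fin 7 → F) : bf (x + x') y = bf x y + bf x' y := add_dotProduct _ _ _

theorem bf_add_right (x y y' : Fin 7 → F) : bf x (y + y') = bf x y + bf x y' := by
  rw [bf, Matrix.mulVec_add, dotProduct_add]; rfl

theorem bf_smul_left (c : F) (x y : Fin 7 → F) : bf (c • x) y = c * bf x y := smul_dotProduct _ _ _

theorem bf_smul_right (c : F) (x y : Fin 7 → F) : bf x (c • y) = c * bf x y := by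
  rw [bf, Matrix.mulVec_smul, dotProduct_smul, smul_eq_mul]; rfl

theorem bf_zero_left (y : Fin 7 → F) : bf 0 y = 0 := zero_dotProduct _

theorem bf_zero_right (x : Fin 7 → F) : bf x 0 = 0 := by rw [bf, Matrix.mulVec_zero, dotProduct_zero]

theorem bf_nondeg (h2 : (2 : F) ≠ 0) {x : Fin 7 → F} (h : ∀ y, bf x y = 0) : x = 0 := by
  have e := fun i => h (Pi.single i 1)
  simp only [bf_eq] at e
  have e0 := e 0; have e1 := e 1; have e2 := e 2; have e3 := e 3; have e4 := e 4; have e5 := e 5; have e6 := e 6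
  simp [h2] at e0 e1 e2 e3 e4 e5 e6
  funext i
  fin_cases i <;> assumption

theorem cr_comm (x y : Fin 7 → F) : cr y x = -cr x y := by
  rw [cr_eq, cr_eq]
  ext i
  fin_cases i <;> simp <;> ring

theorem cr_self (x : Fin 7 → F) : cr x x = 0 := by
  rw [cr_eq]
  ext i
  fin_cases i <;> dsimp <;> ring

theorem cr_smul_right (c : F) (x y : Fin 7 → F) : cr x (c • y) = c • cr x y := Matrix.mulVec_smul _ _ _

theorem cr_add_right (x y y' : Fin 7 → F) : cr x (y + y') = cr x y + cr x y' := Matrix.mulVec_add _ _ _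

theorem cr_smul_left (c : F) (x y : Fin 7 → F) : cr (c • x) y = c • cr x y := by
  rw [cr, map_smul, Matrix.smul_mulVec]; rfl

theorem bf_cr (x y z : Fin 7 → F) : bf (cr x y) z = bf x (cr y z) := by
  rw [cr_eq, cr_eq, bf_eq, bf_eq]
  simp
  ring

theorem cr_cr (a b c : Fin 7 → F) :
    cr a (cr b c) + cr b (cr a c) = (4 * bf a b) • c - (2 * bf a c) • b - (2 * bf b c) • a := by
  simp only [cr_eq, bf_eq]
  ext i
  fin_cases i <;> simp <;> ring

theorem cr_cr_self (h2 : (2 : F) ≠ 0) (a c : Fin 7 → F) :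
    cr a (cr a c) = (2 * bf a a) • c - (2 * bf a c) • a := by
  have h := cr_cr a a c
  rw [← two_smul F] at h
  refine smul_right_injective _ h2 (h.trans ?_)
  module

/-- An automorphism of the product and the form. -/
structure IsAuto (A : Matrix (Fin 7) (Fin 7) F) : Prop where
  form : Aᵀ * cm F gram * A = cm F gram
  prod : Cov cross A A
  det : A.det = 1

theorem IsAuto.bf_map {A : Matrix (Fin 7) (Fin 7) F} (h : IsAuto A) (x y : Fin 7 → F) :
    bf (A *ᵥ x) (A *ᵥ y) = bf x y := by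
  conv_rhs => rw [bf, ← h.form]
  rw [bf, ← Matrix.mulVec_mulVec, ← Matrix.mulVec_mulVec, Matrix.dotProduct_mulVec _ (_ᵀ), Matrix.vecMul_transpose]

theorem IsAuto.cr_map {A : Matrix (Fin 7) (Fin 7) F} (h : IsAuto A) (x y : Fin 7 → F) :
    A *ᵥ cr x y = cr (A *ᵥ x) (A *ᵥ y) := by
  rw [cr, cr, Matrix.mulVec_mulVec, h.prod, ← Matrix.mulVec_mulVec]

theorem gram_det_ne_zero (h2 : (2 : F) ≠ 0) : (cm F gram).det ≠ 0 := by
  intro h
  have hg : mm gram gram = Matrix.diagonal ![4, 1, 1, 1, 1, 1, 1] := by decide +kernel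
  rw [mm_eq] at hg
  have := congrArg (fun A => (cm F A).det) hg
  simp only [map_mul, Matrix.det_mul, h, mul_zero] at this
  rw [show cm F (Matrix.diagonal ![4, 1, 1, 1, 1, 1, 1]) = Matrix.diagonal ![(4 : F), 1, 1, 1, 1, 1, 1] from by
    ext i j
    fin_cases i <;> fin_cases j <;> simp [cm_apply], Matrix.det_diagonal] at this
  simp [Fin.prod_univ_seven] at this
  exact mul_ne_zero h2 h2 (by linear_combination -this)

theorem exists_fixed (h2 : (2 : F) ≠ 0) {s : Matrix (Fin 7) (Fin 7) F} (hs : IsAuto s) {r : ℕ}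
    (hr : (r : F) ≠ 0) (hsr : s ^ r = 1) : ∃ v, s *ᵥ v = v ∧ bf v v ≠ 0 := by
  have hdet : (s - 1).det = 0 := by
    have e : (s - 1)ᵀ * cm F gram * s = cm F gram * (1 - s) := by
      rw [Matrix.transpose_sub, sub_mul, sub_mul, hs.form, Matrix.transpose_one, one_mul, mul_sub, mul_one]
    have := congrArg Matrix.det e
    rw [Matrix.det_mul, Matrix.det_mul, Matrix.det_mul, Matrix.det_transpose, hs.det, mul_one,
      show (1 - s : Matrix (Fin 7) (Fin 7) F) = -(s - 1) from (neg_sub _ _).symm, Matrix.det_neg,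
      Fintype.card_fin] at this
    have h7 : (-1 : F) ^ 7 = -1 := by norm_num
    rw [h7] at this
    have : (2 : F) * (cm F gram).det * (s - 1).det = 0 := by linear_combination this
    simpa [h2, gram_det_ne_zero h2] using this
  obtain ⟨v, hv0, hv⟩ := Matrix.exists_mulVec_eq_zero_iff.2 hdet
  rw [Matrix.sub_mulVec, Matrix.one_mulVec, sub_eq_zero] at hv
  by_cases hvv : bf v v ≠ 0
  · exact ⟨v, hv, hvv⟩
  push_neg at hvv
  obtain ⟨w, hw⟩ : ∃ w, bf v w ≠ 0 := not_forall.1 fun h => hv0 (bf_nondeg h2 h)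
  set f := ∑ i ∈ Finset.range r, (s ^ i) *ᵥ w with hf
  have hsf : s *ᵥ f = f := by
    rw [hf, Matrix.mulVec_sum]
    have h1 : ∀ i, s *ᵥ ((s ^ i) *ᵥ w) = (s ^ (i + 1)) *ᵥ w := fun i => by rw [Matrix.mulVec_mulVec, ← pow_succ']
    simp only [h1]
    have := Finset.sum_range_succ' (fun i => (s ^ i) *ᵥ w) r
    rw [Finset.sum_range_succ, hsr, pow_zero] at this
    exact (add_right_cancel this).symm
  have hvf : bf v f = (r : F) * bf v w := by
    have h1 : ∀ i, bf v ((s ^ i) *ᵥ w) = bf v w := by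
      intro i
      induction i with
      | zero => rw [pow_zero, Matrix.one_mulVec]
      | succ i ih =>
        conv_lhs => rw [pow_succ', ← Matrix.mulVec_mulVec, ← hv]
        rw [hs.bf_map, ih]
    rw [hf, bf, Matrix.mulVec_sum, dotProduct_sum]
    exact (Finset.sum_congr rfl fun i _ => h1 i).trans (by simp)
  by_cases hff : bf f f ≠ 0
  · exact ⟨f, hsf, hff⟩
  push_neg at hff
  refine ⟨v + f, by rw [Matrix.mulVec_add, hv, hsf], ?_⟩
  rw [bf_add_left, bf_add_right, bf_add_right, hvv, hff, bf_comm f v, hvf]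
  rw [zero_add, add_zero, ← two_mul]
  exact mul_ne_zero h2 (mul_ne_zero hr hw)

end Cfsg.Agent.G2Orders
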