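/-
The eigenvalues of an automorphism of the seven dimensional product fixing a non-isotropic vector.

* `spectral` : they are `1, a, b, c, a⁻¹, b⁻¹, c⁻¹` with `a b c = 1`, and a field automorphism fixing the data
  maps `{a, b, c}` to itself or to the inverses
-/
import Cfsg.Agent.Lib.G2Orders.Product

set_option autoImplicit false
set_option linter.unusedSectionVars false

namespace Cfsg.Agent.G2Orders

open Matrix Module

variable {K : Type*} [Field K]

/-- A joint eigenvector of `s` and of the product with `v`. -/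
def Joint (s : Matrix (Fin 7) (Fin 7) K) (v : Fin 7 → K) (i : K) (x : Fin 7 → K) : Prop :=
  ∃ (l : K) (m : K), (m = 0 ∨ m = i ∨ m = -i) ∧ s *ᵥ x = l • x ∧ cr v x = m • x

variable {s : Matrix (Fin 7) (Fin 7) K} {v : Fin 7 → K} {i : K}

theorem span_joint (h2 : (2 : K) ≠ 0) (hs : IsAuto s) (hv : s *ᵥ v = v) (hi0 : i ≠ 0) (hi : i ^ 2 = 2 * bf v v)
    (hss : Submodule.span K {x | ∃ l : K, s *ᵥ x = l • x} = ⊤) :
    Submodule.span K {x | Joint s v i x} = ⊤ := by
  rw [← top_le_iff, ← hss, Submodule.span_le]
  rintro x ⟨l, hl⟩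
  have hvv : bf v v ≠ 0 := fun h => hi0 (pow_eq_zero_iff two_ne_zero |>.1 (by rw [hi, h, mul_zero]))
  have hJ2 := cr_cr_self h2 v x
  have hJv : cr v v = 0 := cr_self v
  have hsJ : ∀ {y : Fin 7 → K} {c : K}, s *ᵥ y = c • y → s *ᵥ cr v y = c • cr v y := fun {y c} h => by
    rw [hs.cr_map, hv, h, cr_smul_right]
  have hJ3 : cr v (cr v (cr v x)) = i ^ 2 • cr v x := by
    rw [hJ2, hi, sub_eq_add_neg, cr_add_right, cr_smul_right, ← neg_smul, cr_smul_right, hJv, smul_zero, add_zero]
  set p := cr v (cr v x) + i • cr v x with hp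
  set n := cr v (cr v x) - i • cr v x with hn
  have hpm : Joint s v i p := ⟨l, i, .inr (.inl rfl), by
      rw [hp, Matrix.mulVec_add, Matrix.mulVec_smul, hsJ (hsJ hl), hsJ hl]; module, by
      rw [hp, cr_add_right, cr_smul_right, hJ3]; module⟩
  have hnm : Joint s v i n := ⟨l, -i, .inr (.inr rfl), by
      rw [hn, Matrix.mulVec_sub, Matrix.mulVec_smul, hsJ (hsJ hl), hsJ hl]; module, by
      rw [hn, sub_eq_add_neg, cr_add_right, ← neg_smul, cr_smul_right, hJ3]; module⟩
  have hvj : Joint s v i v := ⟨1, 0, .inl rfl, by rw [hv, one_smul], by rw [hJv, zero_smul]⟩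
  have hx : x = (1 / (2 * i ^ 2)) • p + (1 / (2 * i ^ 2)) • n + (bf v x / bf v v) • v := by
    have e : x = (1 / i ^ 2) • cr v (cr v x) + (bf v x / bf v v) • v := by
      rw [hJ2, smul_sub, smul_smul, smul_smul, hi]
      match_scalars <;> field_simp <;> ring
    rw [hp, hn]
    conv_lhs => rw [e]
    match_scalars <;> field_simp <;> ring
  rw [hx]
  exact add_mem (add_mem (Submodule.smul_mem _ _ (Submodule.subset_span hpm))
    (Submodule.smul_mem _ _ (Submodule.subset_span hnm))) (Submodule.smul_mem _ _ (Submodule.subset_span hvj))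

theorem exists_basis {T : Set (Fin 7 → K)} (h : Submodule.span K T = ⊤) :
    ∃ b : Basis (Fin 7) K (Fin 7 → K), ∀ k, b k ∈ T := by
  obtain ⟨S, hST, hspan, hli⟩ := exists_linearIndependent K T
  let b0 : Basis S K (Fin 7 → K) := Basis.mk hli (by rw [Subtype.range_coe, hspan, h])
  haveI : Finite S := Module.Finite.finite_basis b0
  haveI := Fintype.ofFinite S
  have hcard : Fintype.card S = 7 := by
    rw [← Module.finrank_eq_card_basis b0, Module.finrank_fintype_fun_eq_card, Fintype.card_fin]
  refine ⟨b0.reindex (Fintype.equivFinOfCardEq hcard), fun k => ?_⟩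
  rw [Basis.reindex_apply, Basis.mk_apply]
  exact hST (Subtype.prop _)

/-- Non-zero values of the form between two sets of a basis bound the first. -/
theorem card_le_of_pairing (h2 : (2 : K) ≠ 0) (b : Basis (Fin 7) K (Fin 7 → K)) (S T : Finset (Fin 7))
    (h : ∀ k ∈ S, ∀ l, bf (b k) (b l) ≠ 0 → l ∈ T) : S.card ≤ T.card := by
  let f : (S → K) →ₗ[K] (T → K) :=
    { toFun := fun c l => bf (∑ k : S, c k • b k) (b l)
      map_add' := fun c d => funext fun l => by
        simp only [Pi.add_apply, add_smul, Finset.sum_add_distrib, bf_add_left]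
      map_smul' := fun a c => funext fun l => by
        simp only [Pi.smul_apply, smul_eq_mul, mul_smul, ← Finset.smul_sum, bf_smul_left, RingHom.id_apply] }
  have hf : Function.Injective f := by
    rw [← LinearMap.ker_eq_bot, LinearMap.ker_eq_bot']
    intro c hc
    have hz : (∑ k : S, c k • b k) = 0 := by
      refine bf_nondeg h2 fun y => ?_
      rw [← b.sum_repr y, bf, Matrix.mulVec_sum, dotProduct_sum]
      refine Finset.sum_eq_zero fun l _ => ?_
      show bf _ (b.repr y l • b l) = 0
      rw [bf_smul_right]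
      by_cases hl : l ∈ T
      · rw [show bf _ (b l) = 0 from congrFun hc ⟨l, hl⟩, mul_zero]
      · rw [show bf (∑ k : S, c k • b k) (b l) = 0 from ?_, mul_zero]
        rw [bf, sum_dotProduct]
        refine Finset.sum_eq_zero fun k _ => ?_
        show bf (c k • b k) (b l) = 0
        rw [bf_smul_left, show bf (b k) (b l) = 0 from by_contra fun e => hl (h k k.2 l e), mul_zero]
    have := Fintype.linearIndependent_iff.1 (b.linearIndependent.comp (fun k : S => (k : Fin 7)) Subtype.val_injective) c hz
    exact funext this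
  simpa using LinearMap.finrank_le_finrank_of_injective hf

theorem repr_eq_zero (b : Basis (Fin 7) K (Fin 7 → K)) {T : (Fin 7 → K) →ₗ[K] (Fin 7 → K)} {lam : Fin 7 → K}
    (hb : ∀ k, T (b k) = lam k • b k) {x : Fin 7 → K} {c : K} (hx : T x = c • x) {k : Fin 7} (hk : lam k ≠ c) :
    b.repr x k = 0 := by
  have e : b.repr (T x) k = lam k * b.repr x k := by
    conv_lhs => rw [← b.sum_repr x, map_sum, map_sum, Finset.sum_apply']
    rw [Finset.sum_eq_single k (fun l _ hl => ?_) (fun h => absurd (Finset.mem_univ k) h)]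
    · rw [map_smul, hb, map_smul, map_smul, b.repr_self]
      simp [mul_comm]
    · rw [map_smul, hb, map_smul, map_smul, b.repr_self]
      simp [Finsupp.single_eq_of_ne hl.symm]
  rw [hx, map_smul, Finsupp.smul_apply, smul_eq_mul] at e
  have : (lam k - c) * b.repr x k = 0 := by linear_combination -e
  exact (mul_eq_zero.1 this).resolve_left (sub_ne_zero.2 hk)

theorem spectral [IsAlgClosed K] (h2 : (2 : K) ≠ 0) (hs : IsAuto s) (hv : s *ᵥ v = v) (hvv : bf v v ≠ 0)
    (hss : Submodule.span K {x | ∃ l : K, s *ᵥ x = l • x} = ⊤) (σ : K ≃+* K)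
    (hσs : s.map σ = s) (hσv : σ ∘ v = v) :
    ∃ a b c : K, a * b * c = 1 ∧
      s.charpoly.roots = 1 ::ₘ (({a, b, c} : Multiset K) + ({a⁻¹, b⁻¹, c⁻¹} : Multiset K)) ∧
      (({a, b, c} : Multiset K).map σ = {a, b, c} ∨ ({a, b, c} : Multiset K).map σ = {a⁻¹, b⁻¹, c⁻¹}) ∧
      ∀ N : ℕ, a ^ N = 1 → b ^ N = 1 → c ^ N = 1 → s ^ N = 1 := by
  classical
  obtain ⟨i, hi⟩ := IsAlgClosed.exists_pow_nat_eq (2 * bf v v) (show 0 < 2 by norm_num)
  have hi0 : i ≠ 0 := fun h => by simp [h, hvv, h2] at hi
  obtain ⟨b, hb⟩ := exists_basis (span_joint h2 hs hv hi0 hi hss)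
  choose lam mu hmu hls hJ using hb
  have hpair : ∀ {x y : Fin 7 → K} {l l' m m' : K}, s *ᵥ x = l • x → s *ᵥ y = l' • y → cr v x = m • x →
      cr v y = m' • y → bf x y ≠ 0 → l * l' = 1 ∧ m + m' = 0 := by
    intro x y l l' m m' hx hy hx' hy' hxy
    constructor
    · have := hs.bf_map x y
      rw [hx, hy, bf_smul_left, bf_smul_right] at this
      exact mul_right_cancel₀ hxy (by linear_combination this)
    · have h1 : bf (cr v x) y = - bf x (cr v y) := by
        rw [cr_comm x v, show -cr x v = (-1 : K) • cr x v by rw [neg_one_smul], bf_smul_left, bf_cr]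
        ring
      rw [hx', hy', bf_smul_left, bf_smul_right] at h1
      exact (mul_eq_zero.1 (show (m + m') * bf x y = 0 by linear_combination h1)).resolve_right hxy
  let S : K → Finset (Fin 7) := fun m => Finset.univ.filter fun k => mu k = m
  let SL : K → K → Finset (Fin 7) := fun m l => Finset.univ.filter fun k => mu k = m ∧ lam k = l
  have hS : ∀ m, (S m).card ≤ (S (-m)).card := fun m => card_le_of_pairing h2 b _ _ fun k hk l e => by
    simp only [S, Finset.mem_filter, Finset.mem_univ, true_and] at hk ⊢
    linear_combination (hpair (hls k) (hls l) (hJ k) (hJ l) e).2 - hk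
  have hSL : ∀ m l, (SL m l).card ≤ (SL (-m) l⁻¹).card := fun m l => card_le_of_pairing h2 b _ _ fun k hk j e => by
    simp only [SL, Finset.mem_filter, Finset.mem_univ, true_and] at hk ⊢
    have hp := hpair (hls k) (hls j) (hJ k) (hJ j) e
    exact ⟨by linear_combination hp.2 - hk.1, eq_inv_of_mul_eq_one_right (hk.2 ▸ hp.1)⟩
  have hzero : ∀ k, mu k = 0 → ∃ c : K, b k = c • v := fun k hk => by
    refine ⟨bf v (b k) / bf v v, ?_⟩
    have := cr_cr_self h2 v (b k)
    rw [hJ k, hk, zero_smul, cr, Matrix.mulVec_zero] at this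
    rw [eq_comm, sub_eq_zero] at this
    refine smul_right_injective _ (mul_ne_zero h2 hvv) ?_
    simp only
    rw [this, smul_smul]
    congr 1
    field_simp
  have hS0 : (S 0).card ≤ 1 := Finset.card_le_one.2 fun k hk l hl => by
    simp only [S, Finset.mem_filter, Finset.mem_univ, true_and] at hk hl
    obtain ⟨c, hc⟩ := hzero k hk
    obtain ⟨d, hd⟩ := hzero l hl
    by_contra hne
    have h0 := Fintype.linearIndependent_iff.1 b.linearIndependent (Pi.single k d - Pi.single l c) (by
      simp only [Pi.sub_apply, sub_smul, Finset.sum_sub_distrib, Pi.single_apply, ite_smul, zero_smul,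
        Finset.sum_ite_eq', Finset.mem_univ, if_true, hc, hd, smul_smul, mul_comm, sub_self]) k
    have hd0 : d ≠ 0 := fun h => b.ne_zero l (by rw [hd, h, zero_smul])
    simp [Pi.single_apply, hne] at h0
    exact hd0 h0
  have hne : i ≠ -i := fun h => hi0 ((mul_eq_zero.1 (show (2 : K) * i = 0 by linear_combination h)).resolve_left h2)
  have hun : (Finset.univ : Finset (Fin 7)) = S 0 ∪ (S i ∪ S (-i)) := by
    ext k
    simp only [S, Finset.mem_union, Finset.mem_filter, Finset.mem_univ, true_and]
    simpa using hmu k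
  have hd1 : Disjoint (S i) (S (-i)) := Finset.disjoint_filter.2 fun k _ e e' => hne (e.symm.trans e')
  have hd0 : Disjoint (S 0) (S i ∪ S (-i)) := by
    rw [Finset.disjoint_union_right]
    exact ⟨Finset.disjoint_filter.2 fun k _ e e' => hi0 (e'.symm.trans e),
      Finset.disjoint_filter.2 fun k _ e e' => neg_ne_zero.2 hi0 (e'.symm.trans e)⟩
  have hc7 : 7 = (S 0).card + ((S i).card + (S (-i)).card) := by
    rw [← Finset.card_union_of_disjoint hd1, ← Finset.card_union_of_disjoint hd0, ← hun, Finset.card_univ,
      Fintype.card_fin]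
  have hpm : (S i).card = (S (-i)).card :=
    le_antisymm (hS i) (by simpa using hS (-i))
  have h3 : (S i).card = 3 := by omega
  have h01 : (S 0).card = 1 := by omega
  obtain ⟨k0, hk0⟩ := Finset.card_eq_one.1 h01
  have hlk0 : lam k0 = 1 := by
    have hk : k0 ∈ S 0 := by rw [hk0]; exact Finset.mem_singleton_self _
    obtain ⟨c, hc⟩ := hzero k0 (Finset.mem_filter.1 hk).2
    have h := hls k0
    rw [hc, Matrix.mulVec_smul, hv] at h
    exact (smul_left_injective K (by rw [← hc]; exact b.ne_zero k0) (show lam k0 • c • v = (1 : K) • c • v by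
      rw [one_smul]; exact h.symm))
  have hexists : ∀ x : Fin 7 → K, x ≠ 0 → ∃ m, bf x (b m) ≠ 0 := fun x hx => not_forall.1 fun h => hx (by
    refine bf_nondeg h2 fun y => ?_
    rw [← b.sum_repr y, bf, Matrix.mulVec_sum, dotProduct_sum]
    refine Finset.sum_eq_zero fun l _ => ?_
    show bf x (_ • b l) = 0
    rw [bf_smul_right, h l, mul_zero])
  have hbv : ∀ k, mu k ≠ 0 → bf v (b k) = 0 := fun k hk => by
    by_contra e
    exact hk (by linear_combination (hpair (show s *ᵥ v = (1 : K) • v by rw [hv, one_smul]) (hls k)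
      (show cr v v = (0 : K) • v by rw [cr_self, zero_smul]) (hJ k) e).2)
  obtain ⟨k, hkS, l, hlS, hkl⟩ : ∃ k ∈ S i, ∃ l ∈ S i, cr (b k) (b l) ≠ 0 := by
    by_contra hno
    push_neg at hno
    obtain ⟨k, hk⟩ := Finset.card_pos.1 (by omega : 0 < (S i).card)
    obtain ⟨m, hm⟩ := hexists (b k) (b.ne_zero k)
    obtain ⟨l, hl, hlk⟩ := Finset.exists_mem_ne (by omega : 1 < (S i).card) k
    have hmk : mu k = i := (Finset.mem_filter.1 hk).2
    have hml : mu l = i := (Finset.mem_filter.1 hl).2
    have hmm : mu m = -i := by linear_combination (hpair (hls k) (hls m) (hJ k) (hJ m) hm).2 - hmk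
    have hkl0 : bf (b k) (b l) = 0 := by_contra fun e => hne (by
      linear_combination (hpair (hls k) (hls l) (hJ k) (hJ l) e).2 - hmk - hml)
    have hvm := hbv m (by rw [hmm]; exact neg_ne_zero.2 hi0)
    have hvl := hbv l (by rw [hml]; exact hi0)
    have e1 := cr_cr v (b m) (b l)
    rw [hJ l, hml, cr_smul_right, hvm, hvl] at e1
    have e2 := cr_cr v (b l) (b m)
    rw [hJ m, hmm, cr_smul_right, hvm, hvl, cr_comm (b m) (b l), bf_comm (b l) (b m)] at e2
    have hw : (2 * i) • cr (b m) (b l) = (-4 * bf (b m) (b l)) • v := by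
      rw [show cr v (-cr (b m) (b l)) = -cr v (cr (b m) (b l)) by
        rw [← neg_one_smul K, cr_smul_right, neg_one_smul]] at e2
      linear_combination (norm := module) e1 + e2
    have e3 := cr_cr (b k) (b m) (b l)
    rw [hno k hk l hl, show cr (b m) (0 : Fin 7 → K) = 0 from Matrix.mulVec_zero _, add_zero, hkl0] at e3
    have e4 : cr (b k) ((2 * i) • cr (b m) (b l)) = (4 * bf (b m) (b l) * i) • b k := by
      rw [hw, cr_smul_right, cr_comm v (b k), hJ k, hmk]
      module
    rw [cr_smul_right, e3] at e4
    have h0 := Fintype.linearIndependent_iff.1 b.linearIndependent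
      (Pi.single l (2 * i * (4 * bf (b k) (b m))) + Pi.single k (-(2 * i * (2 * bf (b m) (b l))) -
        4 * bf (b m) (b l) * i)) (by
        simp only [Pi.add_apply, add_smul, Finset.sum_add_distrib, Pi.single_apply, ite_smul, zero_smul,
          Finset.sum_ite_eq', Finset.mem_univ, if_true]
        linear_combination (norm := module) e4) l
    simp [Pi.single_apply, hlk, hlk.symm, hi0, h2, hm] at h0
    exact mul_ne_zero (mul_ne_zero h2 h2) (one_ne_zero) (by linear_combination h0)
  have hmk : mu k = i := (Finset.mem_filter.1 hkS).2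
  have hml : mu l = i := (Finset.mem_filter.1 hlS).2
  have hu1 : s *ᵥ cr (b k) (b l) = (lam k * lam l) • cr (b k) (b l) := by
    rw [hs.cr_map, hls, hls, cr_smul_left, cr_smul_right, smul_smul]
  have hu2 : cr v (cr (b k) (b l)) = (-i) • cr (b k) (b l) := by
    have h1 := cr_cr v (b k) (b l)
    rw [hJ l, hml, cr_smul_right, hbv k (by rw [hmk]; exact hi0), hbv l (by rw [hml]; exact hi0)] at h1
    have hkl0 : bf (b k) (b l) = 0 := by_contra fun e => hne (by
      linear_combination (hpair (hls k) (hls l) (hJ k) (hJ l) e).2 - hmk - hml)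
    rw [hkl0] at h1
    linear_combination (norm := module) h1
  obtain ⟨m, hm⟩ := hexists _ hkl
  obtain ⟨hprod, hmm⟩ := hpair hu1 (hls m) hu2 (hJ m) hm
  have hmi : mu m = i := by linear_combination hmm
  have hkl' : k ≠ l := fun e => hkl (by rw [e, cr_self])
  have hmk' : m ≠ k := fun e => hm (by rw [e, cr_comm (b l) (b k), show (-cr (b l) (b k)) = (-1 : K) • cr (b l) (b k) by
    rw [neg_one_smul], bf_smul_left, bf_cr, cr_self, bf_zero_right, mul_zero])
  have hml' : m ≠ l := fun e => hm (by rw [e, bf_cr, cr_self, bf_zero_right])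
  have hSi : S i = {k, l, m} := by
    refine (Finset.eq_of_subset_of_card_le ?_ ?_).symm
    · intro x hx
      simp only [Finset.mem_insert, Finset.mem_singleton] at hx
      simp only [S, Finset.mem_filter, Finset.mem_univ, true_and]
      rcases hx with rfl | rfl | rfl <;> assumption
    · rw [h3, Finset.card_eq_three.2 ⟨k, l, m, hkl', hmk'.symm, hml'.symm, rfl⟩]
  have hM : (S i).val.map lam = ({lam k, lam l, lam m} : Multiset K) := by
    rw [hSi, Finset.insert_val, Finset.insert_val, Finset.singleton_val, Multiset.ndinsert_of_notMem (s := {m}) (by simp [hml'.symm]),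
      Multiset.ndinsert_of_notMem (by simp [hkl', hmk'.symm])]
    simp
  have hcount : ∀ m' x, ((S m').val.map lam).count x = (SL m' x).card := fun m' x => by
    rw [Multiset.count_map, Finset.card, show (SL m' x).val = ((S m').val.filter fun a => x = lam a) from ?_]
    simp only [SL, S, Finset.filter_val, Multiset.filter_filter]
    refine Multiset.filter_congr fun a _ => ?_
    rw [and_comm (a := x = lam a), eq_comm (a := x)]
  have hN : (S (-i)).val.map lam = ({(lam k)⁻¹, (lam l)⁻¹, (lam m)⁻¹} : Multiset K) := by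
    rw [show ({(lam k)⁻¹, (lam l)⁻¹, (lam m)⁻¹} : Multiset K) = ({lam k, lam l, lam m} : Multiset K).map (·⁻¹) by simp,
      ← hM]
    refine Multiset.ext.2 fun x => ?_
    rw [← inv_inv x, Multiset.count_map_eq_count' (fun y : K => y⁻¹) _ inv_injective, inv_inv, hcount, hcount]
    refine le_antisymm ?_ ?_
    · simpa using hSL (-i) x
    · simpa using hSL i x⁻¹
  refine ⟨lam k, lam l, lam m, hprod, ?_, ?_, ?_⟩
  · have hcp : s.charpoly = ∏ j, (Polynomial.X - Polynomial.C (lam j)) := by
      have e : LinearMap.toMatrix b b (Matrix.toLin' s) = Matrix.diagonal lam := by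
        ext p q
        rw [LinearMap.toMatrix_apply, Matrix.toLin'_apply, hls, map_smul, b.repr_self]
        rcases eq_or_ne p q with rfl | h
        · simp
        · simp [Matrix.diagonal_apply_ne _ h, Finsupp.single_eq_of_ne h]
      rw [← Matrix.charpoly_diagonal, ← e, LinearMap.charpoly_toMatrix,
        ← LinearMap.charpoly_toMatrix (Matrix.toLin' s) (Pi.basisFun K (Fin 7)), LinearMap.toMatrix_eq_toMatrix',
        LinearMap.toMatrix'_toLin']
    rw [hcp, Finset.prod_eq_multiset_prod, show Multiset.map (fun j => Polynomial.X - Polynomial.C (lam j))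
        Finset.univ.val = (Finset.univ.val.map lam).map (fun x => Polynomial.X - Polynomial.C x) from
        (Multiset.map_map _ _ _).symm,
      Polynomial.roots_multiset_prod_X_sub_C, hun, ← Finset.disjUnion_eq_union _ _ hd0,
      Finset.disjUnion_val, Multiset.map_add, ← Finset.disjUnion_eq_union _ _ hd1, Finset.disjUnion_val,
      Multiset.map_add, hM, hN, hk0, Finset.singleton_val, Multiset.map_singleton, hlk0, Multiset.singleton_add]
  · have hσcr : ∀ x : Fin 7 → K, σ ∘ cr v x = cr v (σ ∘ x) := fun x => by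
      rw [cr_eq, cr_eq]
      funext j
      have hv' : ∀ j, σ (v j) = v j := fun j => congrFun hσv j
      fin_cases j <;> simp [hv', map_ofNat]
    have hσs' : ∀ x : Fin 7 → K, σ ∘ (s *ᵥ x) = s *ᵥ (σ ∘ x) := fun x => by
      funext j
      conv_rhs => rw [← hσs]
      simp [Matrix.mulVec, dotProduct, map_sum]
    have hσsmul : ∀ (c : K) (x : Fin 7 → K), σ ∘ (c • x) = σ c • (σ ∘ x) := fun c x => by
      funext j; simp
    have hle : ∀ m' x, (SL m' x).card ≤ (SL (σ m') (σ x)).card := by
      intro m' x
      have hli : LinearIndependent K fun j : SL m' x => σ ∘ b (j : Fin 7) := by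
        rw [Fintype.linearIndependent_iff]
        intro c hc
        have h0 : ∑ j : SL m' x, σ.symm (c j) • b (j : Fin 7) = 0 := by
          funext p
          refine σ.injective ?_
          have := congrFun hc p
          simpa [Finset.sum_apply, map_sum] using this
        intro j
        have := Fintype.linearIndependent_iff.1 (b.linearIndependent.comp _ Subtype.val_injective) _ h0 j
        simpa using congrArg σ this
      have hsub : Submodule.span K (Set.range fun j : SL m' x => σ ∘ b (j : Fin 7)) ≤
          Submodule.span K (Set.range fun j : SL (σ m') (σ x) => b (j : Fin 7)) := by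
        rw [Submodule.span_le]
        rintro _ ⟨⟨j, hj⟩, rfl⟩
        simp only [SL, Finset.mem_filter, Finset.mem_univ, true_and] at hj
        have h1 : s *ᵥ (σ ∘ b j) = σ x • (σ ∘ b j) := by rw [← hσs', hls, hσsmul, hj.2]
        have h2' : cr v (σ ∘ b j) = σ m' • (σ ∘ b j) := by rw [← hσcr, hJ, hσsmul, hj.1]
        rw [SetLike.mem_coe]
        show σ ∘ b j ∈ _
        rw [← b.sum_repr (σ ∘ b j)]
        refine Submodule.sum_mem _ fun q _ => ?_
        by_cases hq : q ∈ SL (σ m') (σ x)
        · exact Submodule.smul_mem _ _ (Submodule.subset_span ⟨⟨q, hq⟩, rfl⟩)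
        · have : b.repr (σ ∘ b j) q = 0 := by
            simp only [SL, Finset.mem_filter, Finset.mem_univ, true_and, not_and_or] at hq
            rcases hq with hq | hq
            · exact repr_eq_zero b (T := Matrix.toLin' (comb cross v)) (lam := mu) hJ h2' hq
            · exact repr_eq_zero b (T := Matrix.toLin' s) (lam := lam) hls h1 hq
          rw [this, zero_smul]
          exact Submodule.zero_mem _
      have h1 := Submodule.finrank_mono hsub
      have h3 : finrank K (Submodule.span K (Set.range fun j : SL (σ m') (σ x) => b (j : Fin 7))) =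
          Fintype.card (SL (σ m') (σ x)) :=
        finrank_span_eq_card (b.linearIndependent.comp (fun j : SL (σ m') (σ x) => (j : Fin 7)) Subtype.val_injective)
      rw [finrank_span_eq_card hli, h3] at h1
      simpa using h1
    have hσi : σ i = i ∨ σ i = -i := by
      refine sq_eq_sq_iff_eq_or_eq_neg.1 ?_
      rw [← map_pow, hi, map_mul, map_ofNat, bf_eq]
      have hv' : ∀ j, σ (v j) = v j := fun j => congrFun hσv j
      simp [hv', map_ofNat]
    have key : ∀ m', (S i).card = (S m').card → σ i = m' →
        ((S i).val.map lam).map σ = (S m').val.map lam := fun m' hc e => by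
      refine Multiset.eq_of_le_of_card_le (Multiset.le_iff_count.2 fun x => ?_) (by simp [← Finset.card_def, hc])
      rw [← σ.apply_symm_apply x, Multiset.count_map_eq_count' σ _ σ.injective, hcount, hcount, ← e]
      exact hle i (σ.symm x)
    rcases hσi with e | e
    · left
      rw [← hM]
      exact key i rfl e
    · right
      rw [← hM, ← hN]
      exact key (-i) hpm e
  · intro N ha hb' hc
    have hlam : ∀ j, lam j ^ N = 1 := by
      intro j
      have hj : j ∈ S 0 ∪ (S i ∪ S (-i)) := hun ▸ Finset.mem_univ j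
      rcases Finset.mem_union.1 hj with h | h
      · rw [hk0, Finset.mem_singleton] at h
        rw [h, hlk0, one_pow]
      rcases Finset.mem_union.1 h with h | h
      · have : lam j ∈ (S i).val.map lam := Multiset.mem_map_of_mem _ h
        rw [hM] at this
        simp at this
        rcases this with e | e | e <;> rw [e] <;> assumption
      · have : lam j ∈ (S (-i)).val.map lam := Multiset.mem_map_of_mem _ h
        rw [hN] at this
        simp at this
        rcases this with e | e | e <;> rw [e, inv_pow] <;> simp [ha, hb', hc]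
    refine Matrix.toLin'.injective (b.ext fun j => ?_)
    rw [Matrix.toLin'_one, LinearMap.id_apply, Matrix.toLin'_apply]
    have : ∀ n : ℕ, (s ^ n) *ᵥ b j = lam j ^ n • b j := by
      intro n
      induction n with
      | zero => simp
      | succ n ih => rw [pow_succ, ← Matrix.mulVec_mulVec, hls, Matrix.mulVec_smul, ih, smul_smul, pow_succ']
    rw [this, hlam, one_smul]

end Cfsg.Agent.G2Orders
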