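/-
The orders of the elements of the Chevalley group of type G₂, odd characteristic, divide six numbers.

* `dick_rho7`, `isAuto_rho7`
* `orderOf_dvd_bound`
-/
import Cfsg.Agent.Lib.G2Orders.Rep
import Cfsg.Agent.Lib.G2Orders.Spectral
import Cfsg.Agent.Lib.G2Orders.Shape
import Cfsg.Agent.Lib.SpecOmNine.Bound

set_option autoImplicit false
set_option linter.unusedSectionVars false

namespace Cfsg.Agent.G2Orders

open Cfsg Cfsg.Lie Cfsg.Lie.ChevalleyDatum Cfsg.Agent.Chev Cfsg.Agent.ChevBN Cfsg.Agent.Orth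
open Matrix Module Polynomial

variable {F : Type*} [Field F] [Fintype F]

theorem q7_nd (h2 : (2 : F) ≠ 0) : (q7 F).polarBilin.Nondegenerate := by
  rw [Forms.nondegenerate_polarBilin_iff]
  intro x hx
  refine bf_nondeg h2 fun y => ?_
  rw [← hx y, bf_eq]
  simp [QuadraticMap.polar, q7]
  ring

theorem hom_eq_one (h2 : (2 : F) ≠ 0) {M : Type*} [Monoid M] (χ : chevG2.group F →* M)
    (hsq : ∀ g, χ g * χ g = 1) (g : chevG2.group F) : χ g = 1 := by
  have hle : chevG2.group F ≤ χ.ker.map (chevG2.group F).subtype := by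
    show Subgroup.closure _ ≤ _
    rw [Subgroup.closure_le]
    rintro x ⟨r, t, h⟩
    let y : chevG2.group F := ⟨xg DataG2.good F r.val (t / 2), xg_mem_group DataG2.good _ _⟩
    refine ⟨y * y, by rw [SetLike.mem_coe, MonoidHom.mem_ker, map_mul, hsq], ?_⟩
    show xg DataG2.good F r.val (t / 2) * xg DataG2.good F r.val (t / 2) = x
    rw [xg_add DataG2.good r.isLt, show t / 2 + t / 2 = t by field_simp; ring]
    refine Units.ext ?_
    rw [h, coe_xg]
    exact dif_pos r.isLt
  obtain ⟨y, hy, e⟩ := hle g.2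
  rw [← (Subtype.ext e : y = g)]
  exact hy

theorem dick_rho7 (h2 : (2 : F) ≠ 0) (g : chevG2.group F) : dick (rho7 h2 g) = 1 := by
  have hG := Good.of_two_ne_zero (q7_nd h2) h2
  have h1 : ∀ a b, dick (rho7 h2 (a * b)) = dick (rho7 h2 a) * dick (rho7 h2 b) := fun a b => by
    rw [map_mul, dick_mul hG]
  exact hom_eq_one h2 (M := ℤ) ⟨⟨fun g => dick (rho7 h2 g), by rw [map_one, dick_one]⟩, h1⟩ (fun a => by
    show dick (rho7 h2 a) * dick (rho7 h2 a) = 1
    rcases dick_eq_or (rho7 h2 a) with e | e <;> rw [e] <;> rfl) g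

/-- The matrix of an element. -/
noncomputable def mat7 (h2 : (2 : F) ≠ 0) : chevG2.group F →* Matrix (Fin 7) (Fin 7) F :=
  (Units.coeHom _).comp ((isometryGroup F ⇑(q7 F)).subtype.comp (rho7 h2))

theorem mat7_injective (h2 : (2 : F) ≠ 0) : Function.Injective (mat7 h2) :=
  Units.val_injective.comp (Subtype.val_injective.comp (rho7_injective h2))

theorem isAuto_mat7 (h2 : (2 : F) ≠ 0) (g : chevG2.group F) : IsAuto (mat7 h2 g) where
  form := (rho0_mem h2 g).1
  prod := cross_rho7 h2 g
  det := by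
    show ((rho7 h2 g : GL (Fin 7) F) : Matrix (Fin 7) (Fin 7) F).det = 1
    rw [det_eq_dick (Good.of_two_ne_zero (q7_nd h2) h2), dick_rho7 h2 g, Int.cast_one]

theorem cm_map {K : Type*} [Field K] (φ : F →+* K) (A : M7) : (cm F A).map φ = cm K A := by
  ext i j; simp [cm_apply]

theorem IsAuto.map {K : Type*} [Field K] (φ : F →+* K) {A : Matrix (Fin 7) (Fin 7) F} (h : IsAuto A) :
    IsAuto (A.map φ) where
  form := by rw [← cm_map φ, ← Matrix.transpose_map, ← Matrix.map_mul, ← Matrix.map_mul, h.form]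
  prod := cov_of_basis fun k => by
    have e := congrArg (fun M : Matrix (Fin 7) (Fin 7) F => M.map φ) (h.prod (Pi.single k 1))
    simp only [Matrix.map_mul, comb_single] at e
    rw [cm_map] at e
    rw [e, Matrix.mulVec_single_one, comb_apply, comb_apply]
    congr 1
    ext i j
    simp [Matrix.sum_apply, cm_apply]
  det := by rw [← RingHom.mapMatrix_apply, ← RingHom.map_det, h.det, map_one]

theorem charpoly_pow_card_pow (A : Matrix (Fin 7) (Fin 7) F) :
    ∀ j : ℕ, (A ^ (Fintype.card F ^ j)).charpoly = A.charpoly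
  | 0 => by rw [pow_zero, pow_one]
  | j + 1 => by rw [pow_succ, pow_mul, FiniteField.Matrix.charpoly_pow_card, charpoly_pow_card_pow A j]

theorem span_eigen {K : Type*} [Field K] [IsAlgClosed K] {s : Matrix (Fin 7) (Fin 7) K} {r : ℕ}
    (hr : (r : K) ≠ 0) (hsr : s ^ r = 1) : Submodule.span K {x | ∃ l : K, s *ᵥ x = l • x} = ⊤ := by
  have hss : Module.End.IsSemisimple (Matrix.toLin' s) := by
    refine Module.End.isSemisimple_of_squarefree_aeval_eq_zero (p := (X : K[X]) ^ r - 1) ?_ ?_
    · rw [← Polynomial.C_1]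
      exact (separable_X_pow_sub_C 1 hr one_ne_zero).squarefree
    · simp only [map_sub, map_pow, aeval_X, map_one]
      rw [show (Matrix.toLin' s) ^ r = Matrix.toLinAlgEquiv' (s ^ r) from (map_pow Matrix.toLinAlgEquiv' s r).symm,
        hsr, map_one, sub_self]
  rw [← top_le_iff, ← Module.End.iSup_maxGenEigenspace_eq_top (Matrix.toLin' s)]
  refine iSup_le fun l => ?_
  rw [hss.isFinitelySemisimple.maxGenEigenspace_eq_eigenspace]
  intro x hx
  exact Submodule.subset_span ⟨l, by simpa using Module.End.mem_eigenspace_iff.1 hx⟩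

theorem pow_eq_one_of_roots {K : Type*} [Field K] [IsAlgClosed K] [Algebra F K] {p : ℕ} [Fact p.Prime] [CharP F p]
    (A : Matrix (Fin 7) (Fin 7) F) {N e : ℕ} (hN : 0 < N)
    (h : ∀ x : K, x ∈ (A.charpoly.map (algebraMap F K)).roots → x ^ N = 1 ∧
      ((minpoly F A).map (algebraMap F K)).rootMultiplicity x ≤ p ^ e) : A ^ (N * p ^ e) = 1 := by
  classical
  set φ := algebraMap F K
  haveI : CharP K p := charP_of_injective_ringHom φ.injective p
  have hm0 : minpoly F A ≠ 0 := minpoly.ne_zero (Algebra.IsIntegral.isIntegral _)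
  obtain ⟨w, hw⟩ : minpoly F A ∣ X ^ (N * p ^ e) - 1 := by
    rw [← map_dvd_map' φ]
    refine (IsAlgClosed.splits _).dvd_of_roots_le_roots ((Polynomial.map_ne_zero_iff φ.injective).2 hm0)
      (Multiset.le_iff_count.2 fun x => ?_)
    rw [count_roots, count_roots, Polynomial.map_sub, Polynomial.map_pow, map_X, Polynomial.map_one, pow_mul,
      ← one_pow (p ^ e), ← sub_pow_char_pow]
    by_cases hx : x ∈ (A.charpoly.map φ).roots
    · exact (h x hx).2.trans (SpecOmNine.rootMultiplicity_pow_sub_one hN (h x hx).1)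
    · have hle := rootMultiplicity_le_rootMultiplicity_of_dvd
        ((Polynomial.map_ne_zero_iff φ.injective).2 (Matrix.charpoly_monic A).ne_zero)
        (Polynomial.map_dvd φ (Matrix.minpoly_dvd_charpoly A)) x
      rw [← count_roots, ← count_roots (A.charpoly.map φ), Multiset.count_eq_zero_of_notMem hx, count_roots] at hle
      omega
  have := congrArg (Polynomial.aeval A) hw
  rw [map_mul, minpoly.aeval, zero_mul, map_sub, map_pow, aeval_X, map_one, sub_eq_zero] at this
  exact this

theorem orderOf_dvd_bound (p a : ℕ) [Fact p.Prime] [CharP F p] (h2 : (2 : F) ≠ 0) (ha : 1 ≤ a)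
    (hF : Fintype.card F = p ^ a) (g : chevG2.group F) :
    let q := p ^ a
    ∃ N ∈ ({q ^ 2 - 1, q ^ 2 + q + 1, q ^ 2 - q + 1, p * (q - 1), p * (q + 1), p ^ Nat.clog p 7} : Set ℕ),
      orderOf g ∣ N := by
  classical
  intro q
  have hp := (Fact.out : p.Prime)
  let K := AlgebraicClosure F
  let φ : F →+* K := algebraMap F K
  haveI : CharP K p := charP_of_injective_ringHom φ.injective p
  haveI : ExpChar K p := .prime hp
  set A := mat7 h2 g with hA
  have hn0 : orderOf g ≠ 0 := (orderOf_pos g).ne'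
  set r := ordCompl[p] (orderOf g) with hr
  set j := (orderOf g).factorization p with hj
  have hrF : (r : F) ≠ 0 := by
    rw [Ne, CharP.cast_eq_zero_iff F p]
    exact Nat.not_dvd_ordCompl hp hn0
  have hrK : (r : K) ≠ 0 := by
    rw [Ne, CharP.cast_eq_zero_iff K p]
    exact Nat.not_dvd_ordCompl hp hn0
  set s := A ^ (Fintype.card F ^ j) with hsdef
  have hsr : s ^ r = 1 := by
    rw [hsdef, ← pow_mul, hA, ← map_pow, orderOf_dvd_iff_pow_eq_one.1, map_one]
    calc orderOf g = p ^ j * r := (Nat.ordProj_mul_ordCompl_eq_self (orderOf g) p).symm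
      _ ∣ Fintype.card F ^ j * r := mul_dvd_mul_right (pow_dvd_pow_of_dvd (hF ▸ dvd_pow_self p (by omega)) j) r
  have hs : IsAuto s := by rw [hsdef, hA, ← map_pow]; exact isAuto_mat7 h2 _
  obtain ⟨v, hv, hvv⟩ := exists_fixed h2 hs hrF hsr
  have h2K : (2 : K) ≠ 0 := by simpa [map_ofNat] using (map_ne_zero φ).2 h2
  let sK := s.map φ
  let vK := φ ∘ v
  have hvK : sK *ᵥ vK = vK := by
    funext i
    rw [← RingHom.map_mulVec, hv]
    rfl
  have hvvK : bf vK vK ≠ 0 := by
    rw [show bf vK vK = φ (bf v v) by simp [bf_eq, vK, map_ofNat]]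
    exact (map_ne_zero φ).2 hvv
  let σ : K ≃+* K := iterateFrobeniusEquiv K p a
  have hσ : ∀ x : K, σ x = x ^ q := fun x => iterateFrobeniusEquiv_def K p a x
  have hσF : ∀ x : F, σ (φ x) = φ x := fun x => by rw [hσ, ← map_pow, show q = Fintype.card F from hF.symm, FiniteField.pow_card]
  obtain ⟨x, y, z, hxyz, hroots, hperm, -⟩ := spectral h2K (hs.map φ) hvK hvvK
    (span_eigen hrK (by rw [← RingHom.mapMatrix_apply, ← map_pow, hsr, map_one])) σ
    (by ext i k; exact hσF _) (funext fun i => hσF _)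
  rw [show ⇑σ = (· ^ q) from funext hσ] at hperm
  have hAroots : (A.charpoly.map φ).roots = roots7 x y z := by
    rw [← charpoly_pow_card_pow A j, ← Matrix.charpoly_map, hroots]
    rfl
  have hmult : ∀ w : K, ((minpoly F A).map φ).rootMultiplicity w ≤ (roots7 x y z).count w := fun w => by
    rw [← hAroots, count_roots]
    exact rootMultiplicity_le_rootMultiplicity_of_dvd
      ((Polynomial.map_ne_zero_iff φ.injective).2 (Matrix.charpoly_monic A).ne_zero)
      (Polynomial.map_dvd φ (Matrix.minpoly_dvd_charpoly A)) w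
  have hneg : ((minpoly F A).map φ).rootMultiplicity (-1) ≤ (roots7 x y z).count (-1) - 1 := by
    rw [← hAroots, count_roots, show (-1 : K) = φ (-1) by simp,
      ← eq_rootMultiplicity_map φ.injective, ← eq_rootMultiplicity_map φ.injective]
    have h := SpecOmNine.rootMultiplicity_minpoly_le (ap (rho7 h2 g)) (-1)
      (SpecOmNine.ker_add_one_ne_one (Good.of_two_ne_zero (q7_nd h2) h2) h2 _ (dick_rho7 h2 g))
    have e1 : ap (rho7 h2 g) = Matrix.toLin' A := LinearMap.ext fun w => by rw [ap_apply, Matrix.toLin'_apply]; rfl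
    rw [e1, Matrix.minpoly_toLin', ← LinearMap.charpoly_toMatrix (Matrix.toLin' A) (Pi.basisFun F (Fin 7)),
      LinearMap.toMatrix_eq_toMatrix', LinearMap.toMatrix'_toLin'] at h
    exact h
  have hord : ∀ {M : ℕ}, A ^ M = 1 → orderOf g ∣ M := fun {M} hM =>
    orderOf_dvd_of_pow_eq_one (mat7_injective h2 (by rw [map_pow, map_one, ← hA]; exact hM))
  have hq3 : 3 ≤ q := by
    have hpodd : p ≠ 2 := fun h => h2 (by subst h; exact_mod_cast CharP.cast_eq_zero F 2)
    have := hp.two_le
    have : p ≤ q := Nat.le_self_pow (by omega) p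
    omega
  have hq2 : q + 2 ≤ q ^ 2 := by nlinarith
  have hp3 : 3 ≤ p := by
    have hpodd : p ≠ 2 := fun h => h2 (by subst h; exact_mod_cast CharP.cast_eq_zero F 2)
    have := hp.two_le
    omega
  rcases shape h2K (by omega : 1 ≤ q) hxyz hperm with ⟨N, hN, hroot, hc⟩ | ⟨N, hN, hroot, hc⟩ | hone
  · have hNpos : 0 < N := by
      simp only [Set.mem_insert_iff, Set.mem_singleton_iff] at hN
      omega
    refine ⟨N, ?_, hord ?_⟩
    · simp only [Set.mem_insert_iff, Set.mem_singleton_iff] at hN ⊢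
      rcases hN with rfl | rfl | rfl <;> simp
    · simpa using pow_eq_one_of_roots (K := K) (p := p) A (e := 0) hNpos fun w hw => ⟨hroot w (hAroots ▸ hw), by
        rcases hc w with h | ⟨rfl, h⟩
        · simpa using (hmult w).trans h
        · show ((minpoly F A).map φ).rootMultiplicity _ ≤ _
          simp only [pow_zero]; omega⟩
  · refine ⟨p * N, ?_, hord ?_⟩
    · simp only [Set.mem_insert_iff, Set.mem_singleton_iff] at hN ⊢
      rcases hN with rfl | rfl <;> simp
    · rw [mul_comm]
      have hNpos : 0 < N := by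
        simp only [Set.mem_insert_iff, Set.mem_singleton_iff] at hN
        omega
      simpa using pow_eq_one_of_roots (K := K) (p := p) A (e := 1) hNpos fun w hw => ⟨hroot w (hAroots ▸ hw), by
        rcases hc w with h | ⟨rfl, h⟩
        · have := hmult w
          show ((minpoly F A).map φ).rootMultiplicity _ ≤ _
          rw [pow_one]; omega
        · show ((minpoly F A).map φ).rootMultiplicity _ ≤ _
          rw [pow_one]; omega⟩
  · refine ⟨p ^ Nat.clog p 7, by simp, hord ?_⟩
    simpa using pow_eq_one_of_roots (K := K) (p := p) A (e := Nat.clog p 7) one_pos fun w hw => ⟨by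
      rw [hone w (hAroots ▸ hw), one_pow], by
      refine ((hmult w).trans ?_).trans (Nat.le_pow_clog hp.one_lt 7)
      exact (Multiset.count_le_card _ _).trans (by simp [roots7])⟩

end Cfsg.Agent.G2Orders
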