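/-
An element of order p² of the Chevalley group of type G₂ in characteristic p = 3 and p = 5.

* `exists_sq_char`
-/
import Cfsg.Agent.Lib.G2Orders.Bound

set_option autoImplicit false
set_option linter.unusedSectionVars false

namespace Cfsg.Agent.G2Orders

open Cfsg Cfsg.Lie Cfsg.Lie.ChevalleyDatum Cfsg.Agent.Chev Cfsg.Agent.ChevBN Cfsg.Agent.Orth
open Matrix

/-- The integral matrix of a regular unipotent element, minus one. -/
def reg1 : M7 := mk [[0, 0, 0, 0, -1, -1, 0], [2, 0, 0, 0, -1, -1, 0], [0, -1, 0, 0, 0, 0, 0], [0, 0, 0, 0, 0, 0, 0], [0, 0, 0, 0, 0, 1, 0], [0, 0, 0, -1, 0, 0, 0], [0, -1, 1, 0, 0, 0, 0]]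

/-- Its square. -/
def reg2 : M7 := mk [[0, 0, 0, 1, 0, -1, 0], [0, 0, 0, 1, -2, -3, 0], [-2, 0, 0, 0, 1, 1, 0], [0, 0, 0, 0, 0, 0, 0], [0, 0, 0, -1, 0, 0, 0], [0, 0, 0, 0, 0, 0, 0], [-2, -1, 0, 0, 1, 1, 0]]

/-- Its cube. -/
def reg3 : M7 := mk [[0, 0, 0, 1, 0, 0, 0], [0, 0, 0, 3, 0, -2, 0], [0, 0, 0, -1, 2, 3, 0], [0, 0, 0, 0, 0, 0, 0], [0, 0, 0, 0, 0, 0, 0], [0, 0, 0, 0, 0, 0, 0], [-2, 0, 0, -1, 3, 4, 0]]

/-- Its fifth power. -/
def reg5 : M7 := mk [[0, 0, 0, 0, 0, 0, 0], [0, 0, 0, 0, 0, 0, 0], [0, 0, 0, -2, 0, 0, 0], [0, 0, 0, 0, 0, 0, 0], [0, 0, 0, 0, 0, 0, 0], [0, 0, 0, 0, 0, 0, 0], [0, 0, 0, -5, 0, 2, 0]]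

theorem reg_checks :
    mm (act 7 0 + act 7 1 + act 7 2) (act 6 0 + act 6 1 + act 6 2) = 1 + reg1 ∧ mm reg1 reg1 = reg2 ∧
      mm reg2 reg1 = reg3 ∧ mm reg3 reg2 = reg5 ∧ mm reg5 reg2 = 0 ∧ reg3 0 3 = 1 ∧ reg5 2 3 = -2 := by
  decide +kernel

theorem reg_pows : reg1 ^ 3 = reg3 ∧ reg1 ^ 5 = reg5 ∧ reg1 ^ 7 = 0 := by
  obtain ⟨-, h2, h3, h5, h7, -, -⟩ := reg_checks
  simp only [mm_eq] at h2 h3 h5 h7
  have e2 : reg1 ^ 2 = reg2 := by rw [pow_two, h2]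
  have e3 : reg1 ^ 3 = reg3 := by rw [pow_succ, e2, h3]
  have e5 : reg1 ^ 5 = reg5 := (pow_add reg1 3 2).trans (by rw [e3, e2, h5])
  exact ⟨e3, e5, (pow_add reg1 5 2).trans (by rw [e5, e2, h7])⟩

variable {F : Type*} [Field F] [Fintype F]

theorem mat7_xg (h2 : (2 : F) ≠ 0) {r : ℕ} (hr : r ∈ simples) (t : F) :
    mat7 h2 ⟨xg DataG2.good F r t, xg_mem_group DataG2.good _ _⟩ = rootA r t := by
  show ((rho7 h2 _ : GL (Fin 7) F) : Matrix (Fin 7) (Fin 7) F) = _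
  rw [rho7_xg h2 hr]
  rfl

/-- In characteristic three and five there are elements of order `p²`. -/
theorem exists_sq_char (p : ℕ) [Fact p.Prime] [CharP F p] (h2 : (2 : F) ≠ 0) (h35 : p = 3 ∨ p = 5) :
    ∃ g : chevG2.group F, orderOf g = p ^ 2 := by
  haveI : CharP (Matrix (Fin 7) (Fin 7) F) p := Matrix.charP p
  haveI : ExpChar (Matrix (Fin 7) (Fin 7) F) p := .prime Fact.out
  obtain ⟨hu, -, -, -, -, h33, h53⟩ := reg_checks
  obtain ⟨e3, e5, e7⟩ := reg_pows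
  rw [mm_eq] at hu
  refine ⟨⟨xg DataG2.good F 7 1, xg_mem_group DataG2.good _ _⟩ * ⟨xg DataG2.good F 6 1, xg_mem_group DataG2.good _ _⟩, ?_⟩
  rw [← orderOf_injective (mat7 h2) (mat7_injective h2), map_mul, mat7_xg h2 (by simp [simples]),
    mat7_xg h2 (by simp [simples]), rootA_eq, rootA_eq, one_smul, one_pow, one_smul, one_smul, one_smul,
    ← map_add, ← map_add, ← map_add, ← map_add, ← map_mul, hu, map_add, map_one]
  have key : ∀ n, (1 + cm F reg1) ^ p ^ n = 1 + cm F (reg1 ^ p ^ n) := fun n => by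
    rw [add_pow_expChar_pow_of_commute _ _ (Commute.one_left _), one_pow, map_pow]
  refine orderOf_eq_prime_pow (n := 1) (fun h => ?_) ?_
  · rw [key, add_eq_left, pow_one] at h
    rcases h35 with rfl | rfl
    · have h' := congrFun (congrFun h 0) 3
      rw [e3, cm_apply, h33, Int.cast_one] at h'
      exact one_ne_zero h'
    · have h' := congrFun (congrFun h 2) 3
      rw [e5, cm_apply, h53] at h'
      refine h2 (neg_eq_zero.1 ?_)
      simpa using h'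
  · rw [key, add_eq_left, pow_eq_zero_of_le (n := p ^ (1 + 1)) (by rcases h35 with rfl | rfl <;> norm_num) e7, map_zero]

end Cfsg.Agent.G2Orders
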